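import Groth.Agent.AlgSp.K290.Ind
import Groth.Agent.AlgSp.K645.Int
import Groth.Agent.DRing.K229.PerfInd

/-!
# Thick subcategories containing the `j_! O_E`, `E` affine, contain the perfect objects
-/

set_option autoImplicit false
set_option linter.unusedSectionVars false
universe u

open CategoryTheory CategoryTheory.Limits Opposite AlgebraicGeometry

attribute [local instance] HasDerivedCategory.standard

namespace K290.Thick

open K645.Ex K645.Lam K645.Shriek K645.Square K645.IsO K290.DIdem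

section gen

variable {C : Type (u + 1)} [Category.{u} C] {J : GrothendieckTopology C} {R : Sheaf J RingCat.{u + 1}}
  {V : C} {U W : Opn C}

/-- The empty open. -/
def empt : Opn C := ⟨fun _ => False, fun _ h => h⟩

/-- The open of objects with a map to `V`. -/
def gen (V : C) : Opn C := ⟨fun E => Nonempty (E ⟶ V), fun f h => ⟨f ≫ h.some⟩⟩

theorem elem_gen (hV : ∀ (E : C) (g g' : E ⟶ V), g = g') : Elem J V empt (gen V) where
  le _ h := h.elim
  memV := ⟨𝟙 V⟩
  cov E h := ⟨⊤, J.top_mem _, fun E' e _ => Or.inr ⟨e ≫ h.some⟩⟩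
  uniq E g g' := ⟨⊤, J.top_mem _, fun E' e _ => Or.inr (by rw [hV E g g'])⟩

variable [HasSheafify J AddCommGrpCat.{u + 1}] [J.WEqualsLocallyBijective AddCommGrpCat.{u + 1}]

open DerivedCategory in
/-- Restriction of an object placed in one degree. -/
noncomputable def rDSingle (M : SheafOfModules.{u + 1} R) (n : ℤ) :
    (rD R V).obj ((singleFunctor _ n).obj M) ≅ (singleFunctor _ n).obj ((rst R V).obj M) :=
  ((rst R V).mapDerivedCategorySingleFunctor n).app M

open DerivedCategory in
/-- Extension by zero of an object placed in one degree. -/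
noncomputable def sDSingle (M : SheafOfModules.{u + 1} (R.over V)) (n : ℤ) :
    (sD R V).obj ((singleFunctor _ n).obj M) ≅ (singleFunctor _ n).obj ((shriek R V).obj M) :=
  ((shriek R V).mapDerivedCategorySingleFunctor n).app M

theorem prop_gen (hV : ∀ (E : C) (g g' : E ⟶ V), g = g') (P : ObjectProperty (DR R)) [P.IsTriangulated]
    [P.IsClosedUnderIsomorphisms] (K : DR R) (h : P ((sD R V).obj ((rD R V).obj K))) :
    P ((lD (gen V) R).obj K) := by
  refine prop_lD_W (elem_gen hV) P K (P.prop_of_isZero ?_) (P.prop_of_isZero ?_) h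
  · exact (sD R V).map_isZero (isZero_lD_bot (W := ovr empt V) (fun E (hE : False) => hE.elim) _)
  · exact isZero_lD_bot (W := empt) (fun E (hE : False) => hE.elim) _

theorem prop_gen_unit (hV : ∀ (E : C) (g g' : E ⟶ V), g = g') (P : ObjectProperty (DR R)) [P.IsTriangulated]
    [P.IsClosedUnderIsomorphisms]
    (hP : ∀ A : SheafOfModules.{u + 1} R, Cor V A → P ((DerivedCategory.singleFunctor _ 0).obj A)) :
    P ((lD (gen V) R).obj ((DerivedCategory.singleFunctor _ 0).obj (SheafOfModules.unit R))) := by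
  refine prop_gen hV P _ (P.prop_of_iso ((sD R V).mapIso (rDSingle (SheafOfModules.unit R) 0) ≪≫
    sDSingle (SheafOfModules.unit (R.over V)) 0).symm ?_)
  exact hP _ (cor_shriek (Over.mk (𝟙 V)) (cor_unit Over.mkIdTerminal))

end gen

section aff

open AlgSp K646.EtSite

variable {S : Scheme.{u}} {X : AlgSp.Sp S} (V : EtOver X)

/-- The open of the slice given by a set of points. -/
def opV (A : Set ↥(sch V)) : Opn (Over V) where
  mem Y := Set.range (mor Y.hom) ⊆ A
  down {Y Z} g h := by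
    rintro _ ⟨y, rfl⟩
    refine h ⟨mor g.left y, ?_⟩
    have h1 : mor (g.left ≫ Z.hom) y = mor Z.hom (mor g.left y) := rfl
    rw [← h1, Over.w g]

theorem opn_ext {C : Type (u + 1)} [Category.{u} C] {U W : Opn C} (h : ∀ E, U.mem E ↔ W.mem E) : U = W := by
  obtain ⟨m, hm⟩ := U
  obtain ⟨m', hm'⟩ := W
  obtain rfl : m = m' := funext fun E => propext (h E)
  rfl

theorem ovr_opn (O : Set (Points X)) :
    ovr (K290.ElemSq.opn O) V = opV V (Points.ofPt V.obj.hom ⁻¹' O) := by
  apply opn_ext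
  intro Y
  constructor
  · rintro h _ ⟨y, rfl⟩
    have := h y
    rwa [← K646.MVSq.ofPt_mor Y.hom y] at this
  · intro h y
    have := h ⟨y, rfl⟩
    rw [← K646.MVSq.ofPt_mor Y.hom y]
    exact this

theorem inter_opV (A A' : Set ↥(sch V)) : inter (opV V A) (opV V A') = opV V (A ∩ A') := by
  apply opn_ext
  intro Y
  exact Set.subset_inter_iff.symm

theorem opV_le {A A' : Set ↥(sch V)} (h : A ⊆ A') : LE ((etTop X).over V) (opV V A) (opV V A') :=
  fun _ hE => ⟨⊤, GrothendieckTopology.top_mem _ _, fun _ e _ => (opV V A').down e (hE.trans h)⟩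

variable {V}

/-- Coverings by preimages of opens. -/
theorem exists_cover_opV {A A' : (sch V).Opens} (Y : Over V) (hY : Set.range (mor Y.hom) ⊆ ((A : Set ↥(sch V)) ∪ A')) :
    ∃ T ∈ (etTop X).over V Y, ∀ ⦃Y' : Over V⦄ (e : Y' ⟶ Y), T e → (opV V A).mem Y' ∨ (opV V A').mem Y' := by
  let P : ∀ (E' : EtOver X), (E' ⟶ Y.left) → Prop := fun E' g =>
    Set.range (mor (g ≫ Y.hom)) ⊆ A ∨ Set.range (mor (g ≫ Y.hom)) ⊆ A'
  obtain ⟨T, hT, h⟩ := K290.ElemSq.exists_sieve P (fun E' E'' g g' h' => by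
      have key : Set.range (mor ((g' ≫ g) ≫ Y.hom)) ⊆ Set.range (mor (g ≫ Y.hom)) := by
        rintro _ ⟨y, rfl⟩
        exact ⟨mor g' y, rfl⟩
      exact h'.imp key.trans key.trans) (fun x => by
      rcases hY ⟨x, rfl⟩ with hx | hx
      · refine ⟨opn Y.left (mor Y.hom ⁻¹ᵁ A), opnι _ _, ?_, Or.inl ?_⟩
        · rw [range_opnι]
          exact hx
        · rintro _ ⟨y, rfl⟩
          have hy : mor (opnι Y.left (mor Y.hom ⁻¹ᵁ A)) y ∈ mor Y.hom ⁻¹ᵁ A := by
            have := range_opnι Y.left (mor Y.hom ⁻¹ᵁ A)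
            have h2 : mor (opnι Y.left (mor Y.hom ⁻¹ᵁ A)) y ∈ Set.range (mor (opnι Y.left (mor Y.hom ⁻¹ᵁ A))) := ⟨y, rfl⟩
            rw [this] at h2
            exact h2
          exact hy
      · refine ⟨opn Y.left (mor Y.hom ⁻¹ᵁ A'), opnι _ _, ?_, Or.inr ?_⟩
        · rw [range_opnι]
          exact hx
        · rintro _ ⟨y, rfl⟩
          have hy : mor (opnι Y.left (mor Y.hom ⁻¹ᵁ A')) y ∈ mor Y.hom ⁻¹ᵁ A' := by
            have := range_opnι Y.left (mor Y.hom ⁻¹ᵁ A')
            have h2 : mor (opnι Y.left (mor Y.hom ⁻¹ᵁ A')) y ∈ Set.range (mor (opnι Y.left (mor Y.hom ⁻¹ᵁ A'))) := ⟨y, rfl⟩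
            rw [this] at h2
            exact h2
          exact hy)
  refine ⟨(Sieve.overEquiv Y).symm T, (etTop X).overEquiv_symm_mem_over Y T hT, fun Y' e he => ?_⟩
  have h1 := h e.left ((Sieve.overEquiv_symm_iff T e).1 he)
  have h2 : e.left ≫ Y.hom = Y'.hom := Over.w e
  change Set.range (mor (e.left ≫ Y.hom)) ⊆ _ ∨ Set.range (mor (e.left ≫ Y.hom)) ⊆ _ at h1
  rw [h2] at h1
  exact h1

/-- The object of the slice given by an open of `V`. -/
noncomputable abbrev oV (A : (sch V).Opens) : Over V := Over.mk (opnι V A)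

theorem gen_oV (A : (sch V).Opens) : gen (oV A) = opV V A := by
  apply opn_ext
  intro Y
  constructor
  · rintro ⟨g⟩
    rintro _ ⟨y, rfl⟩
    have h1 : mor Y.hom y = mor (opnι V A) (mor g.left y) := by
      rw [← Over.w g]
      rfl
    have h2 : mor (opnι V A) (mor g.left y) ∈ Set.range (mor (opnι V A)) := ⟨_, rfl⟩
    rw [range_opnι] at h2
    rw [h1]
    exact h2
  · intro h
    have hr : Set.range (mor Y.hom) ⊆ Set.range (A.ι) := by
      rw [Scheme.Opens.range_ι]
      exact h
    let l := IsOpenImmersion.lift A.ι (mor Y.hom) hr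
    have hl : l ≫ A.ι = mor Y.hom := IsOpenImmersion.lift_fac _ _ _
    exact ⟨Over.homMk (extLift A.ι Y.hom l hl) (extLift_extHom _ _ _ _)⟩

theorem oV_hom_ext (A : (sch V).Opens) (Y : Over V) (g g' : Y ⟶ oV A) : g = g' := by
  apply Over.OverMorphism.ext
  have : Mono (opnι V A) := by
    have h0 : IsOpenImmersion (Scheme.Opens.ι A) := inferInstance
    have h1 : Mono (Scheme.Opens.ι A) := IsOpenImmersion.mono _
    have : Mono (mor (opnι V A)) := h1
    infer_instance
  have h : g.left ≫ opnι V A = g'.left ≫ opnι V A := (Over.w g).trans (Over.w g').symm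
  exact (cancel_mono (opnι V A)).1 h

/-- A finite union of basic opens. -/
noncomputable def OL {Y : Scheme.{u}} : List Γ(Y, ⊤) → Y.Opens
  | [] => ⊥
  | f :: l => Y.basicOpen f ⊔ OL l

theorem mem_OL {Y : Scheme.{u}} (l : List Γ(Y, ⊤)) (y : Y) : y ∈ OL l ↔ ∃ f ∈ l, y ∈ Y.basicOpen f := by
  induction l with
  | nil => simp [OL]
  | cons f l ih =>
    rw [OL, TopologicalSpace.Opens.mem_sup, ih]
    simp

theorem inf_OL {Y : Scheme.{u}} (f : Γ(Y, ⊤)) (l : List Γ(Y, ⊤)) :
    Y.basicOpen f ⊓ OL l = OL (l.map (f * ·)) := by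
  ext y
  constructor
  · rintro ⟨h1, h2⟩
    obtain ⟨g, hg, hy⟩ := (mem_OL l y).1 h2
    refine (mem_OL _ y).2 ⟨f * g, List.mem_map_of_mem hg, ?_⟩
    rw [Scheme.basicOpen_mul]
    exact ⟨h1, hy⟩
  · intro h
    obtain ⟨g', hg', hy⟩ := (mem_OL _ y).1 h
    obtain ⟨g, hg, rfl⟩ := List.mem_map.1 hg'
    rw [Scheme.basicOpen_mul] at hy
    exact ⟨hy.1, (mem_OL l y).2 ⟨g, hg, hy.2⟩⟩

theorem exists_OL {Y : Scheme.{u}} [IsAffine Y] (A : Set Y) (hA : IsOpen A) (hAc : IsCompact A) :
    ∃ l : List Γ(Y, ⊤), A = (OL l : Set Y) := by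
  obtain ⟨s, hs, hsU⟩ := (isCompact_and_isOpen_iff_finite_and_eq_biUnion_basicOpen
    (X := Y) (U := A)).1 ⟨hAc, hA⟩
  refine ⟨hs.toFinset.toList, ?_⟩
  rw [hsU]
  ext x
  rw [SetLike.mem_coe, mem_OL]
  simp

variable (V)

/-- (L1) generation of `j_! O` for a quasi-compact open of an affine object. -/
theorem prop_OL [IsAffine (sch V)] (P : ObjectProperty (DR ((OEtRing X).over V))) [P.IsTriangulated]
    [P.IsClosedUnderIsomorphisms]
    (hP : ∀ Y : Over V, IsAffine (sch Y.left) → ∀ A : SheafOfModules.{u + 1} ((OEtRing X).over V), Cor Y A →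
      P ((DerivedCategory.singleFunctor _ 0).obj A)) :
    ∀ (n : ℕ) (l : List Γ(sch V, ⊤)), l.length = n →
      P ((lD (opV V (OL l)) ((OEtRing X).over V)).obj
        ((DerivedCategory.singleFunctor _ 0).obj (SheafOfModules.unit ((OEtRing X).over V)))) := by
  intro n
  induction n with
  | zero =>
    intro l hl
    rw [List.length_eq_zero_iff] at hl
    subst hl
    refine P.prop_of_isZero (isZero_lD_bot (fun Y hY => ?_) _)
    have he : IsEmpty ↥(sch Y.left) := ⟨fun y => (hY ⟨y, rfl⟩ : mor Y.hom y ∈ ((⊥ : (sch V).Opens) : Set _))⟩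
    have h1 := K646.EtAcyc.bot_mem_of_isEmpty Y.left
    rw [GrothendieckTopology.mem_over_iff]
    exact (etTop X).superset_covering bot_le h1
  | succ n ih =>
    intro l hl
    cases l with
    | nil => simp at hl
    | cons f l =>
      have hl' : l.length = n := by simpa using hl
      refine prop_lD_union (U := opV V ((sch V).basicOpen f)) (U' := opV V (OL l))
        (opV_le V ?_) (opV_le V ?_) (fun Y hY => exists_cover_opV Y ?_) P _ ?_ ?_ (ih l hl')
      · exact (le_sup_left : (sch V).basicOpen f ≤ OL (f :: l))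
      · exact (le_sup_right : OL l ≤ OL (f :: l))
      · intro y hy
        exact hY hy
      · have h1 : inter (opV V ((sch V).basicOpen f)) (opV V (OL l)) = opV V (OL (l.map (f * ·))) := by
          rw [inter_opV, ← inf_OL]
          rfl
        rw [h1]
        exact ih _ (by rw [List.length_map, hl'])
      · rw [← gen_oV]
        refine prop_gen_unit (oV_hom_ext _) P (fun A hA => hP _ ?_ A hA)
        exact (isAffineOpen_top (sch V)).basicOpen f

end aff

section main

open AlgSp K646.EtSite K645.TE K645.Int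

variable {S : Scheme.{u}} {X : AlgSp.Sp S}

/-- (L2) -/
theorem prop_TD (V : EtOver X) [IsAffine V.obj.left.left] (P : ObjectProperty (DR ((OEtRing X).over V)))
    [P.IsTriangulated] [P.IsClosedUnderIsomorphisms] [P.IsStableUnderRetracts]
    (hP : ∀ Y : Over V, IsAffine (sch Y.left) → ∀ A : SheafOfModules.{u + 1} ((OEtRing X).over V), Cor Y A →
      P ((DerivedCategory.singleFunctor _ 0).obj A)) (A : Set ↥(sch V)) (hA : IsOpen A) (hAc : IsCompact A)
    (M : Dual.D (B V)) (hM : DRing.IsPerfect (B V) M) :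
    P ((lD (opV V A) ((OEtRing X).over V)).obj ((TD V).obj M)) := by
  have : IsAffine (sch V) := inferInstanceAs (IsAffine V.obj.left.left)
  obtain ⟨l, rfl⟩ := exists_OL (Y := sch V) A hA hAc
  let Q : ObjectProperty (Dual.D (B V)) :=
    (P.inverseImage (lD (opV V (OL l)) ((OEtRing X).over V))).inverseImage (TD V)
  have hQ : Q.IsTriangulated := inferInstance
  change Q M
  refine K229.PerfInd.prop_of_isPerfect Q ?_ (fun K n hK => Q.le_shift n K hK)
    (fun T hT h1 h3 => Q.ext_of_isTriangulatedClosed₂ T hT h1 h3) (fun K L _ hKL => ?_) M hM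
  · obtain ⟨e⟩ := (cor_tE V).iso (cor_unit (R := (OEtRing X).over V) Over.mkIdTerminal)
    have e' : (DerivedCategory.singleFunctor _ 0).obj (SheafOfModules.unit ((OEtRing X).over V)) ≅
        (TD V).obj (Dual.inD (B V) (B V)) :=
      (DerivedCategory.singleFunctor _ 0).mapIso e.symm ≪≫
        (((tE V).mapDerivedCategorySingleFunctor 0).app (ModuleCat.of (B V) (B V))).symm
    exact P.prop_of_iso ((lD (opV V (OL l)) ((OEtRing X).over V)).mapIso e') (prop_OL V P hP _ l rfl)
  · have r : Retract K (K ⊞ L) := ⟨biprod.inl, biprod.fst, biprod.inl_fst⟩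
    exact P.prop_of_retract ((r.map (TD V)).map (lD (opV V (OL l)) ((OEtRing X).over V))) hKL

/-- (L3) -/
theorem prop_rD (V : EtOver X) [IsAffine V.obj.left.left] (P : ObjectProperty (DR ((OEtRing X).over V)))
    [P.IsTriangulated] [P.IsClosedUnderIsomorphisms] [P.IsStableUnderRetracts]
    (hP : ∀ Y : Over V, IsAffine (sch Y.left) → ∀ A : SheafOfModules.{u + 1} ((OEtRing X).over V), Cor Y A →
      P ((DerivedCategory.singleFunctor _ 0).obj A)) (A : Set ↥(sch V)) (hA : IsOpen A) (hAc : IsCompact A)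
    (K : DModEt X) (hK : PerfAt K V) :
    P ((lD (opV V A) ((OEtRing X).over V)).obj ((rD (OEtRing X) V).obj K)) := by
  obtain ⟨M, hM, ⟨e⟩⟩ := hK
  exact P.prop_of_iso ((lD (opV V A) ((OEtRing X).over V)).mapIso e) (prop_TD V P hP A hA hAc M hM)

theorem prop_rD' (V : EtOver X) [IsAffine V.obj.left.left] (P : ObjectProperty (DR ((OEtRing X).over V)))
    [P.IsTriangulated] [P.IsClosedUnderIsomorphisms] [P.IsStableUnderRetracts]
    (hP : ∀ Y : Over V, IsAffine (sch Y.left) → ∀ A : SheafOfModules.{u + 1} ((OEtRing X).over V), Cor Y A →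
      P ((DerivedCategory.singleFunctor _ 0).obj A))
    (K : DModEt X) (hK : PerfAt K V) : P ((rD (OEtRing X) V).obj K) := by
  have h := prop_rD V P hP Set.univ isOpen_univ isCompact_univ K hK
  have := isIso_iD_top (W := opV V Set.univ) (R := (OEtRing X).over V)
    (fun E => ⟨⊤, GrothendieckTopology.top_mem _ _, fun E' e _ => Set.subset_univ _⟩) ((rD (OEtRing X) V).obj K)
  exact P.prop_of_iso (asIso ((iD (opV V Set.univ) ((OEtRing X).over V)).app _)) h

/-- **Thick principle**: a thick subcategory of `D(O_X)` containing the `j_! O_E`, `E` affine over `X`, contains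
`j_! j^* K` for `K` perfect and `j` the inclusion of a quasi-compact open. -/
theorem prop_of_isPerfect [QuasiSeparatedSpace ↥S] (X : AlgSp.Space S) (hXc : AlgSp.IsQuasiCompactSp X.obj)
    (hXs : AlgSp.IsQuasiSeparatedSp X.obj) (P : ObjectProperty (DModEt X.obj)) [P.IsTriangulated]
    [P.IsClosedUnderIsomorphisms] [P.IsStableUnderRetracts]
    (hP : ∀ E : EtOver X.obj, IsAffine (sch E) → ∀ A : ModEt X.obj, Cor E A →
      P ((DerivedCategory.singleFunctor _ 0).obj A)) (K : DModEt X.obj) (hK : IsPerfectEtD K) :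
    P K := by
  have hK' := (isPerfectEtD_iff K).1 hK
  have h := K290.Ind.ind X hXc hXs (fun O => P ((lD (K290.ElemSq.opn O) (OEtRing X.obj)).obj K))
    (P.prop_of_isZero (isZero_lD_bot (fun E hE => ?_) _)) (fun O₁ O₂ V hO₁ hO₁c _ _ hV hVc H h1 => ?_)
  · have := isIso_iD_top (W := K290.ElemSq.opn (Set.univ : Set (Points X.obj))) (R := OEtRing X.obj)
      (fun E => ⟨⊤, GrothendieckTopology.top_mem _ _, fun E' e _ => K290.ElemSq.mem_opn_univ E'⟩) K
    exact P.prop_of_iso (asIso ((iD (K290.ElemSq.opn Set.univ) (OEtRing X.obj)).app K)) h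
  · have he : IsEmpty ↥(sch E) := ⟨fun y => hE y⟩
    exact K646.EtAcyc.bot_mem_of_isEmpty E
  · have hV' : IsAffine V.obj.left.left := hV
    let P' : ObjectProperty (DR ((OEtRing X.obj).over V)) := P.inverseImage (sD (OEtRing X.obj) V)
    have hr : P'.IsStableUnderRetracts := ⟨fun r h => P.prop_of_retract (r.map (sD (OEtRing X.obj) V)) h⟩
    have hP' : ∀ Y : Over V, IsAffine (sch Y.left) →
        ∀ A : SheafOfModules.{u + 1} ((OEtRing X.obj).over V), Cor Y A →
          P' ((DerivedCategory.singleFunctor _ 0).obj A) := fun Y hY A hA =>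
      P.prop_of_iso (sDSingle A 0).symm (hP Y.left hY _ (cor_shriek Y hA))
    refine prop_lD_W H P K ?_ h1 (prop_rD' V P' hP' K (hK' V hV'))
    rw [ovr_opn]
    exact prop_rD V P' hP' _ (hO₁.preimage (Points.continuous_ofPt _)) hVc K (hK' V hV')

end main

end K290.Thick
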