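import Groth.Agent.AlgSp.K290.HomBd
import Groth.Agent.AlgSp.K290.Thick
import Groth.Agent.AlgSp.K646.DInst
import Groth.Agent.AlgSp.K646.DSec

/-!
# Perfect objects have a hom-vanishing interval
-/

set_option autoImplicit false

universe w v u

open CategoryTheory Category Limits Pretriangulated Triangulated DerivedCategory

open scoped ZeroObject

namespace K290.HomBd

open Groth.Agent.PerfA.CohomIn

variable {C : Type u} [Category.{v} C] [Abelian C] [HasDerivedCategory.{w} C]
  (Qc : ObjectProperty C)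

theorem Interval.mono {Qc : ObjectProperty C} {K : DerivedCategory C} {a b a' b' : ℤ} (h : Interval Qc K a b)
    (ha : a' ≤ a) (hb : b ≤ b') : Interval Qc K a' b' :=
  fun L hL hv φ => h L hL (fun i hi hi' => hv i (ha.trans hi) (hi'.trans hb)) φ

/-- The objects with a hom-vanishing interval. -/
def int : ObjectProperty (DerivedCategory C) := fun K => ∃ a b : ℤ, Interval Qc K a b

instance : (int Qc).IsStableUnderRetracts where
  of_retract := by
    rintro X Y r ⟨a, b, h⟩
    refine ⟨a, b, fun L hL hv φ => ?_⟩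
    have h1 := h L hL hv (r.r ≫ φ)
    calc φ = r.i ≫ r.r ≫ φ := by rw [r.retract_assoc]
      _ = 0 := by rw [h1, comp_zero]

instance [Qc.IsClosedUnderIsomorphisms] [Qc.ContainsZero] : (int Qc).IsTriangulated where
  exists_zero := ⟨0, isZero_zero _, 0, 0, fun L _ _ φ => (isZero_zero _).eq_of_src _ _⟩
  isStableUnderShiftBy n := ⟨by
    rintro K ⟨a, b, h⟩
    obtain ⟨m, rfl⟩ : ∃ m : ℤ, n = -m := ⟨-n, by simp⟩
    refine ⟨a + m, b + m, fun L hL hv φ => ?_⟩
    exact shift_hom_eq_zero h hL m (fun i hi hi' => hv i hi hi') φ⟩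
  ext₂' T hT := by
    rintro ⟨a, b, h⟩ ⟨a', b', h'⟩
    refine ObjectProperty.le_isoClosure _ _ ⟨min a a', max b b', fun L hL hv φ => ?_⟩
    obtain ⟨ψ, hψ⟩ := Triangle.yoneda_exact₂ _ hT φ
      (h L hL (fun i hi hi' => hv i ((min_le_left _ _).trans hi) (hi'.trans (le_max_left _ _))) _)
    rw [hψ, h' L hL (fun i hi hi' => hv i ((min_le_right _ _).trans hi) (hi'.trans (le_max_right _ _))) ψ,
      comp_zero]

end K290.HomBd

namespace K290.HomInt

open AlgebraicGeometry K290.HomBd AlgSp K646.EtSite K645.IsO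

attribute [local instance] HasDerivedCategory.standard

variable {S : Scheme.{u}}

instance (X : Sp S) : (K646.AcycX.Qc X).IsClosedUnderIsomorphisms where
  of_iso e h := (K646.AcycX.acyc X).iso e h

instance (X : Sp S) : (K646.AcycX.Qc X).ContainsZero where
  exists_zero := ⟨0, isZero_zero _, (K646.AcycX.acyc X).zero (isZero_zero _)⟩

/-- `j_! O_E`, `E` affine. -/
theorem int_cor {X : Sp S} (E : EtOver X) (hE : IsAffine (sch E)) (A : ModEt X) (hA : Cor E A) :
    int (K646.AcycX.Qc X) ((singleFunctor _ 0).obj A) := by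
  have := K646.DInst.hasProductsOfShape_nat (X := X)
  obtain ⟨e⟩ := hA.iso (cor_OU.{u + 1} (R := OEtRing X) E)
  refine (int (K646.AcycX.Qc X)).prop_of_iso ((singleFunctor _ 0).mapIso e.symm)
    ⟨0, 0, fun L hL hv φ => ?_⟩
  have h := (K646.DSec.bijective_hm (K646.AcycX.acyc X) (K := L) hL
    (G := K646.Inst.OU E) ⟨E, hE, rfl⟩ 0).1
  apply h
  exact (hv 0 le_rfl le_rfl).eq_of_tgt _ _

theorem int_of_isPerfect [QuasiSeparatedSpace ↥S] (X : AlgSp.Space S) (hXc : AlgSp.IsQuasiCompactSp X.obj)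
    (hXs : AlgSp.IsQuasiSeparatedSp X.obj) (K : DModEt X.obj) (hK : IsPerfectEtD K) :
    int (K646.AcycX.Qc X.obj) K :=
  K290.Thick.prop_of_isPerfect X hXc hXs (int (K646.AcycX.Qc X.obj))
    (fun E hE A hA => int_cor E hE A hA) K hK

end K290.HomInt
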