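import Groth.Agent.AlgSp.K290.ElemSq
import Groth.Agent.AlgSp.K620.Constr
import Groth.Agent.S10768

/-!
# Induction over elementary squares of the small etale site
-/

set_option autoImplicit false
universe u

open CategoryTheory CategoryTheory.Limits Opposite AlgebraicGeometry Topology
open AlgSp K646.EtSite K645.Square K290.ElemSq

namespace K290.Ind

variable {S : Scheme.{u}} [QuasiSeparatedSpace ↥S]

/-- A property of quasi-compact open sets of points which holds for the empty set and passes to `O₂` from `O₁` for an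
elementary square `(O₁ ⊆ O₂, V ⟶ O₂)` with `V` affine holds for the whole space. -/
theorem ind (X : AlgSp.Space S) (hXc : AlgSp.IsQuasiCompactSp X.obj) (hXs : AlgSp.IsQuasiSeparatedSp X.obj)
    (P : Set (Points X.obj) → Prop) (h0 : P ∅)
    (hstep : ∀ (O₁ O₂ : Set (Points X.obj)) (V : EtOver X.obj), IsOpen O₁ → IsCompact O₁ → IsOpen O₂ →
      IsCompact O₂ → IsAffine (sch V) → IsCompact (Points.ofPt V.obj.hom ⁻¹' O₁) →
      Elem (etTop X.obj) V (opn O₁) (opn O₂) → P O₁ → P O₂) : P Set.univ := by
  obtain ⟨E, e, he, her⟩ := K610.Sub.exists_open_subspace X ∅ isOpen_empty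
  have hop : ∀ {W : Space S} {j : W ⟶ X}, RepWith @IsOpenImmersion j.hom → IsOpen (Set.range (Points.map j.hom)) :=
    fun hj => (K610.OpenImm.isOpenEmbedding_points X.2 hj).isOpen_range
  have hE : IsQuasiCompactSp E.obj := by
    rw [K598.OpenInd.isQuasiCompactSp_iff_range he, her]
    exact isCompact_empty
  have h := Groth.Agent.S10768.result X hXc hXs (fun W j => P (Set.range (Points.map j.hom))) E e he hE
    (by
      rw [her]
      exact h0) ?_
  · change P (Set.range (Points.map (𝟙 X.obj))) at h
    have h1 : Set.range (Points.map (𝟙 X.obj)) = Set.univ := by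
      refine Set.range_eq_univ.2 fun x => ⟨x, ?_⟩
      rw [Points.map_id]
    rwa [h1] at h
  · intro W₁ W₂ V j₁ j₂ k m f hj₁ hj₂ hk hm hW₁ hW₂ hV hsq hP
    obtain ⟨T, hT, ⟨e'⟩⟩ := hV
    obtain ⟨V', hV', hel⟩ := exists_elem hj₂ hk hsq T e'
    have hVa : IsAffine (sch V') := by
      change IsAffine V'.obj.left.left
      rw [hV']
      exact hT
    have hc1 := (K598.OpenInd.isQuasiCompactSp_iff_range hj₁).1 hW₁
    have hc2 := (K598.OpenInd.isQuasiCompactSp_iff_range hj₂).1 hW₂
    have : CompactSpace ↥V'.obj.left.left := inferInstanceAs (CompactSpace ↥(sch V'))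
    exact hstep _ _ V' (hop hj₁) hc1 (hop hj₂) hc2 hVa
      (K620.Constr.isCompact_preimage_ofPt X.2 hXs V'.obj.hom (hop hj₁) hc1) hel hP

end K290.Ind
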