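import Groth.Agent.AlgSp.K290.ExtSp
import Groth.Agent.AlgSp.K290.Ind
import Groth.Agent.AlgSp.K290.HomInt
import Groth.Agent.Cohder.BddAff

/-!
# Boundedness tested on a perfect generator
-/

set_option autoImplicit false
set_option linter.unusedSectionVars false

universe w v u

open CategoryTheory Category Limits Pretriangulated Triangulated Opposite AlgebraicGeometry Filter

namespace K290.BddSp

open Groth.Agent.Cohder.BddAff Groth.Agent.Cohder.HomVanish K290.HomBd

section van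

variable {D : Type u} [Category.{v} D] [Preadditive D] [HasZeroObject D] [HasShift D ℤ]
  [∀ n : ℤ, (shiftFunctor D n).Additive] [Pretriangulated D]

theorem homVan_shift_left {P E : D} {i : ℤ} (n j : ℤ) (hj : j + n = i) (h : HomVan P E j) :
    HomVan (P⟦n⟧) E i := by
  rw [homVan_iff _ _ i (-i) (by lia)]
  rw [homVan_iff _ _ j (-j) (by lia)] at h
  intro φ
  rw [← cancel_epi ((shiftFunctorAdd' D n (-i) (-j) (by lia)).hom.app P), comp_zero]
  exact h _

/-- The objects `P` with `Hom(P, E⟦i⟧) = 0` for almost all `i`. -/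
def vanF (E : D) (F : Filter ℤ) : ObjectProperty D := fun P => ∀ᶠ i in F, HomVan P E i

variable (E : D) {F : Filter ℤ} (hF : ShiftInv F)

instance : (vanF E F).IsStableUnderRetracts where
  of_retract r h := by
    have h' : ∀ᶠ i in F, HomVan _ E i := h
    change ∀ᶠ i in F, HomVan _ E i
    filter_upwards [h'] with i hi
    exact hi.of_retract r.i r.r r.retract

instance : (vanF E F).IsClosedUnderIsomorphisms where
  of_iso e h := by
    have h' : ∀ᶠ i in F, HomVan _ E i := h
    change ∀ᶠ i in F, HomVan _ E i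
    filter_upwards [h'] with i hi
    exact hi.of_iso_left e

open scoped ZeroObject in
instance : (vanF E F).ContainsZero where
  exists_zero := ⟨0, isZero_zero _, Eventually.of_forall fun i => HomVan.of_isZero_left (isZero_zero _) _ _⟩

include hF in
theorem isTriangulated_vanF : (vanF E F).IsTriangulated := by
  have h1 : (vanF E F).IsStableUnderShift ℤ :=
    { isStableUnderShiftBy := fun n =>
        { le_shift := fun P hP => by
            have h2 := (hF (-n)).eventually hP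
            change ∀ᶠ i in F, HomVan _ E i
            filter_upwards [h2] with i hi
            exact homVan_shift_left n (i + -n) (by lia) hi } }
  have h2 : (vanF E F).IsTriangulatedClosed₂ := .mk' fun T hT h₁ h₃ => by
    have h₁' : ∀ᶠ i in F, HomVan T.obj₁ E i := h₁
    have h₃' : ∀ᶠ i in F, HomVan T.obj₃ E i := h₃
    change ∀ᶠ i in F, HomVan T.obj₂ E i
    filter_upwards [h₁', h₃'] with i hi1 hi3 φ
    obtain ⟨ψ, hψ⟩ := Triangle.yoneda_exact₂ _ hT φ (hi1 _)
    rw [hψ, hi3 ψ, comp_zero]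
  exact { }

end van

section int

variable {C : Type u} [Category.{v} C] [Abelian C] [HasDerivedCategory.{w} C]
  (Q : ObjectProperty (DerivedCategory C))

/-- Maps from `K` to the objects of `Q` without cohomology in degrees `[a, b]` vanish. -/
def IvQ (K : DerivedCategory C) (a b : ℤ) : Prop :=
  ∀ L : DerivedCategory C, Q L →
    (∀ i : ℤ, a ≤ i → i ≤ b → IsZero ((DerivedCategory.homologyFunctor C i).obj L)) → ∀ φ : K ⟶ L, φ = 0

/-- The objects with a hom-vanishing interval. -/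
def intQ : ObjectProperty (DerivedCategory C) := fun K => ∃ a b : ℤ, IvQ Q K a b

instance : (intQ Q).IsStableUnderRetracts where
  of_retract := by
    rintro X Y r ⟨a, b, h⟩
    refine ⟨a, b, fun L hL hv φ => ?_⟩
    have h1 := h L hL hv (r.r ≫ φ)
    calc φ = r.i ≫ r.r ≫ φ := by rw [r.retract_assoc]
      _ = 0 := by rw [h1, comp_zero]

instance : (intQ Q).IsClosedUnderIsomorphisms where
  of_iso := by
    rintro X Y e ⟨a, b, h⟩
    refine ⟨a, b, fun L hL hv φ => ?_⟩
    exact (cancel_epi e.hom).1 ((h L hL hv (e.hom ≫ φ)).trans comp_zero.symm)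

variable {Q} in
theorem IvQ.homVan [Q.IsStableUnderShift ℤ] {K L : DerivedCategory C} {a b : ℤ} (h : IvQ Q K a b) (hL : Q L) (n : ℤ)
    (hv : ∀ i : ℤ, a + n ≤ i → i ≤ b + n → IsZero ((DerivedCategory.homologyFunctor C i).obj L)) :
    HomVan K L n :=
  h _ (Q.le_shift n _ hL) (fun i hi hi' => isZero_shift L n i (hv _ (by lia) (by lia)))

open scoped ZeroObject in
instance [Q.IsStableUnderShift ℤ] : (intQ Q).IsTriangulated where
  exists_zero := ⟨0, isZero_zero _, 0, 0, fun L _ _ φ => (isZero_zero _).eq_of_src _ _⟩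
  isStableUnderShiftBy n := ⟨by
    rintro K ⟨a, b, h⟩
    obtain ⟨m, rfl⟩ : ∃ m : ℤ, n = -m := ⟨-n, by simp⟩
    refine ⟨a + m, b + m, fun L hL hv φ => ?_⟩
    exact eq_zero_of_shift K L m (h.homVan hL m hv) φ⟩
  ext₂' _ hT := by
    rintro ⟨a, b, h⟩ ⟨a', b', h'⟩
    refine ObjectProperty.le_isoClosure _ _ ⟨min a a', max b b', fun L hL hv φ => ?_⟩
    obtain ⟨ψ, hψ⟩ := Triangle.yoneda_exact₂ _ hT φ
      (h L hL (fun i hi hi' => hv i ((min_le_left _ _).trans hi) (hi'.trans (le_max_left _ _))) _)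
    rw [hψ, h' L hL (fun i hi hi' => hv i ((min_le_right _ _).trans hi) (hi'.trans (le_max_right _ _))) ψ,
      comp_zero]

variable {Q} in
theorem eventually_homVan [Q.IsStableUnderShift ℤ] {F : Filter ℤ} (hF : ShiftInv F) {K L : DerivedCategory C}
    (h : intQ Q K) (hL : Q L) (hv : ∀ᶠ i in F, IsZero ((DerivedCategory.homologyFunctor C i).obj L)) :
    ∀ᶠ i in F, HomVan K L i := by
  obtain ⟨a, b, h⟩ := h
  filter_upwards [hF.window hv a b] with n hn
  exact h.homVan hL n fun i h1 h2 => hn i (by lia) (by lia)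

end int

attribute [local instance] HasDerivedCategory.standard

open K645.Ex K645.Lam K645.Shriek K645.Square K290.DIdem K290.QCW K290.ExtW AlgSp K646.EtSite K645.TE K645.Int
  K645.IsO K290.Thick K290.ElemSq K645.Zar K645.Psi K645.PsiMain K645.LocO K645.PsiIso K294.GlueOn K290.ExtSp
  K290.Tors

section ring

theorem eventually_isZero_ring {F : Filter ℤ} (hF : ShiftInv F) {A : Type u} [CommRing A]
    (M : DerivedCategory (ModuleCat.{u} A)) (l : List A)
    (hT : ∀ᶠ i in F, ∀ f ∈ l, ∀ x : (DerivedCategory.homologyFunctor (ModuleCat.{u} A) i).obj M,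
      ∃ k : ℕ, f ^ k • x = 0)
    (hK : ∀ᶠ i in F, HomVan (DerivedCategory.Q.obj (Koszul.koszul A l)) M i) :
    ∀ᶠ i in F, IsZero ((DerivedCategory.homologyFunctor (ModuleCat.{u} A) i).obj M) := by
  filter_upwards [hF.window hT (-(2 * (l.length : ℤ))) l.length,
    hF.window hK (-(l.length : ℤ)) l.length] with n h1 h2
  exact Groth.Agent.Cohder.BddKoszul.isZero_homology M l n (fun a ha i h3 h4 => h1 i (by lia) h4 a ha)
    (fun i h3 h4 => h2 i (by lia) h4)

end ring

section gen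

variable {C : Type (u + 1)} [Category.{u} C] {J : GrothendieckTopology C} {R : Sheaf J RingCat.{u + 1}}
  {V : C} {U W : Opn C}
  [HasSheafify J AddCommGrpCat.{u + 1}] [J.WEqualsLocallyBijective AddCommGrpCat.{u + 1}]

/-- The map between the restrictions to two opens. -/
theorem exists_res (h : LE J U W) (G : DR R) : ∃ a : (lD U R).obj G ⟶ (lD W R).obj G, Res U a := by
  have := isIso_lD_map_iD h G
  exact ⟨inv ((lD U R).map ((iD W R).app G)) ≫ (iD U R).app ((lD W R).obj G),
    (res_iD U ((lD W R).obj G)).of_iso (asIso ((lD U R).map ((iD W R).app G))) (Iso.refl _) (by simp)⟩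

open scoped ZeroObject in
theorem res_zero {K : DR R} (hK : IsZero ((lD U R).obj K)) : Res U (0 : (0 : DR R) ⟶ K) :=
  ⟨(sup U R).prop_of_isZero (isZero_zero _), IsZero.isIso ((lD U R).map_isZero (isZero_zero _)) hK _⟩

theorem homVan_iff_of_bij {Q : ObjectProperty (DR R)} [Q.IsStableUnderShift ℤ] {F F' : DR R} {i : F ⟶ F'}
    (hi : Res U i)
    (hb : ∀ ⦃A P : DR R⦄ (a : A ⟶ P), Res U a → Q P → Function.Bijective (fun φ : P ⟶ F' => a ≫ φ))
    {A P : DR R} {a : A ⟶ P} (ha : Res U a) (hP : Q P) (n : ℤ) : HomVan P F' n ↔ HomVan A F n := by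
  rw [homVan_iff P F' n (-n) (by lia), homVan_iff A F n (-n) (by lia)]
  have h1 := hb (a⟦-n⟧') (ha.shift (-n)) (Q.le_shift (-n) _ hP)
  have h2 := bijective_comp_of_supp (U := U) i hi.ism ((sup U R).le_shift (-n) _ ha.sp)
  constructor
  · intro h φ
    apply h2.1
    obtain ⟨ψ, hψ⟩ := h1.2 (φ ≫ i)
    change φ ≫ i = 0 ≫ i
    have h3 : a⟦-n⟧' ≫ ψ = φ ≫ i := hψ
    rw [← h3, h ψ, comp_zero, zero_comp]
  · intro h φ
    apply h1.1
    obtain ⟨ψ, hψ⟩ := h2.2 (a⟦-n⟧' ≫ φ)
    have h3 : ψ ≫ i = a⟦-n⟧' ≫ φ := hψ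
    change a⟦-n⟧' ≫ φ = a⟦-n⟧' ≫ 0
    rw [← h3, h ψ, comp_zero, zero_comp]

end gen

section sp

variable {S : Scheme.{u}} {X : Sp S}

/-- Maps out of `j_! O_E`, `E` affine. -/
theorem intQ_cor (W : Opn (EtOver X)) (E : EtOver X) (hE : W.mem E) (hE' : IsAffine (sch E)) (A : ModEt X)
    (hA : Cor E A) : intQ (QC W) ((DerivedCategory.singleFunctor _ 0).obj A) := by
  have : IsAffine E.obj.left.left := hE'
  obtain ⟨e⟩ := exists_cor_iso E A hA
  refine (intQ (QC W)).prop_of_iso e ⟨0, 0, fun L hL hv φ => ?_⟩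
  have h0 := K645.Good.good_qc (V := E) (E := Over.mk (𝟙 E)) hE'
    (cor_unit (R := (OEtRing X).over E) Over.mkIdTerminal) (hL.2 E hE hE') 0
  have h1 : (adjSR (OEtRing X) E).homEquiv _ _ φ = 0 := by
    apply h0.1
    have h2 : IsZero ((DerivedCategory.homologyFunctor _ 0).obj ((rD (OEtRing X) E).obj L)) :=
      ((rst (OEtRing X) E).map_isZero (hv 0 le_rfl le_rfl)).of_iso
        ((Groth.Agent.PerfA.ExactD.mapHomology (rst (OEtRing X) E) 0).app L)
    exact h2.eq_of_tgt _ _
  exact K645.Good.eq_zero_of_homEquiv (adjSR (OEtRing X) E) φ h1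

theorem mem_opn_of_le {O₁ O₂ : Set (Points X)} (h : LE (etTop X) (opn O₁) (opn O₂)) (E : EtOver X)
    (hE : (opn O₁).mem E) : (opn O₂).mem E := by
  intro x
  obtain ⟨T, hT, h'⟩ := h E hE
  obtain ⟨E', g, hg, -, ⟨y, hy⟩⟩ := exists_affine E T hT x
  have h1 := h' g hg y
  rw [← K646.MVSq.ofPt_mor g y, hy] at h1
  exact h1

theorem vanM_opn_empty (M : ModEt X) : IsZero ((lam (opn (∅ : Set (Points X))) (OEtRing X)).obj M) := by
  rw [isZero_lam_iff]
  intro E hE m
  refine section_ext M ⊥ ?_ _ _ fun _ _ he => he.elim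
  rw [mem_etTop_iff]
  intro x
  exact (hE x).elim

variable {V : EtOver X} [hVa : IsAffine V.obj.left.left]

theorem isZero_homology_rD (N : Dual.D (B V)) {E : DModEt X} (e : (TD V).obj N ≅ (rD (OEtRing X) V).obj E) (i : ℤ) :
    IsZero ((rst (OEtRing X) V).obj ((DerivedCategory.homologyFunctor _ i).obj E)) ↔
      IsZero ((DerivedCategory.homologyFunctor _ i).obj N) := by
  have e1 : (rst (OEtRing X) V).obj ((DerivedCategory.homologyFunctor _ i).obj E) ≅
      (tE V).obj ((DerivedCategory.homologyFunctor _ i).obj N) :=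
    ((Groth.Agent.PerfA.ExactD.mapHomology (rst (OEtRing X) V) i).app E).symm ≪≫
      (DerivedCategory.homologyFunctor _ i).mapIso e.symm ≪≫
        (Groth.Agent.PerfA.ExactD.mapHomology (tE V) i).app N
  rw [e1.isZero_iff]
  constructor
  · intro h
    rw [IsZero.iff_id_eq_zero]
    apply (tE V).map_injective
    exact h.eq_of_src _ _
  · exact fun h => (tE V).map_isZero h

/-- The torsion condition on cohomology modules. -/
theorem tors_of_isZero {O : Opn (EtOver X)} (l : List (B V)) (hl : ovr O V = oo V (OB V l)) (N : Dual.D (B V))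
    {E : DModEt X} (e : (TD V).obj N ≅ (rD (OEtRing X) V).obj E) (i : ℤ)
    (h : IsZero ((lam O (OEtRing X)).obj ((DerivedCategory.homologyFunctor _ i).obj E))) :
    ∀ f ∈ l, ∀ x : (DerivedCategory.homologyFunctor (ModuleCat.{u + 1} (B V)) i).obj N, ∃ k : ℕ, f ^ k • x = 0 := by
  refine (isZero_lam_tE_iff V l _).1 ?_
  have e1 : (rst (OEtRing X) V).obj ((DerivedCategory.homologyFunctor _ i).obj E) ≅
      (tE V).obj ((DerivedCategory.homologyFunctor _ i).obj N) :=
    ((Groth.Agent.PerfA.ExactD.mapHomology (rst (OEtRing X) V) i).app E).symm ≪≫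
      (DerivedCategory.homologyFunctor _ i).mapIso e.symm ≪≫
        (Groth.Agent.PerfA.ExactD.mapHomology (tE V) i).app N
  have h2 : IsZero ((lam (ovr O V) ((OEtRing X).over V)).obj
      ((rst (OEtRing X) V).obj ((DerivedCategory.homologyFunctor _ i).obj E))) := by
    rw [isZero_lam_iff] at h ⊢
    exact fun Y hY m => h Y.left hY m
  rw [hl] at h2
  exact h2.of_iso ((lam (oo V (OB V l)) (OEtOn V)).mapIso e1.symm)

theorem homVan_ring (K N : Dual.D (B V)) {E : DModEt X} (e : (TD V).obj N ≅ (rD (OEtRing X) V).obj E) (i : ℤ)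
    (h : HomVan ((sD (OEtRing X) V).obj ((TD V).obj K)) E i) : HomVan K N i := by
  intro φ
  apply (TD V).map_injective
  rw [CategoryTheory.Functor.map_zero]
  let e1 : (TD V).obj (N⟦i⟧) ≅ (rD (OEtRing X) V).obj (E⟦i⟧) :=
    ((TD V).commShiftIso i).app N ≪≫ (shiftFunctor _ i).mapIso e ≪≫ (((rD (OEtRing X) V).commShiftIso i).app E).symm
  have h1 : (TD V).map φ ≫ e1.hom = 0 := by
    refine K645.Good.eq_zero_of_symm (adjSR (OEtRing X) V) _ (h _)
  exact (cancel_mono e1.hom).1 (h1.trans zero_comp.symm)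

section kos

variable {O₁ : Set (Points X)} {W : Opn (EtOver X)} (H : Elem (etTop X) V (opn O₁) W) (l : List (B V))
  (hl : ovr (opn O₁) V = oo V (OB V l))

/-- The Koszul object supported over the complement of `O₁`. -/
noncomputable abbrev KK (V : EtOver X) [IsAffine V.obj.left.left] (l : List (B V)) : DModEt X :=
  (sD (OEtRing X) V).obj ((TD V).obj (kos l))

include hl in
theorem isZero_ovr_kos : IsZero ((lD (ovr (opn O₁) V) ((OEtRing X).over V)).obj ((TD V).obj (kos l))) := by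
  rw [hl]
  exact (tors_iff V l _).1 (torsP_kos V l)

include hl in
theorem isZero_KK : IsZero ((lD (opn O₁) (OEtRing X)).obj (KK V l)) := isZero_lD_sD _ (isZero_ovr_kos l hl)

include H hl in
theorem QC_KK : QC W (KK V l) := by
  refine ⟨isIso_iD_W H _, qc_of_elem H (fun E hE _ => ?_) ?_⟩
  · exact (cohOn E).prop_of_isZero (isZero_rD hE (isZero_KK l hl))
  · have := isIso_unit H (isZero_ovr_kos l hl)
    have e : (TD V).obj (kos l) ≅ (rD (OEtRing X) V).obj (KK V l) :=
      asIso ((adjSR (OEtRing X) V).unit.app ((TD V).obj (kos l)))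
    exact (cohOn V).prop_of_iso e (isQCoh_TD V _)

include H in
theorem isCompact_KK : PerfAux.IsCompactObjRel.{u + 1} (QC W) (KK V l) :=
  isCompact_sD W V H.memV (isCompact_TD V _ (K228.Compact.isCompactObjRel_of_isCompactW
    (Groth.Agent.LoccohB.LocGen.isCompactW_of_isPerfect (Groth.Agent.Cohder.BddShriek.isPerfect_koszul l))))

end kos

end sp

section main

variable {S : Scheme.{u}} [QuasiSeparatedSpace ↥S] (X : AlgSp.Space S) (hXc : AlgSp.IsQuasiCompactSp X.obj)
  (hXs : AlgSp.IsQuasiSeparatedSp X.obj) (G : DModEt X.obj) (hG : IsPerfectEtD G) {F : Filter ℤ} (hF : ShiftInv F)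

/-- `G|_O` is a generator. -/
def Gen (O : Set (Points X.obj)) : Prop :=
  ∀ L : DModEt X.obj, QC (opn O) L →
    (∀ (n : ℤ) (φ : ((lD (opn O) (OEtRing X.obj)).obj G)⟦n⟧ ⟶ L), φ = 0) → IsZero L

/-- The criterion over `O`. -/
def Crit (F : Filter ℤ) (O : Set (Points X.obj)) : Prop :=
  ∀ E : DModEt X.obj, QC (opn O) E → (∀ᶠ i in F, HomVan ((lD (opn O) (OEtRing X.obj)).obj G) E i) →
    ∀ᶠ i in F, IsZero ((DerivedCategory.homologyFunctor _ i).obj E)

variable {O₁ O₂ : Set (Points X.obj)} {V : EtOver X.obj} [hVa : IsAffine V.obj.left.left]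
  (hO₁ : IsOpen O₁) (hO₁c : IsCompact O₁) (hO₂ : IsOpen O₂) (hO₂c : IsCompact O₂)
  (hVc : IsCompact (Points.ofPt V.obj.hom ⁻¹' O₁)) (H : Elem (etTop X.obj) V (opn O₁) (opn O₂))

include hG hO₁ hVc H in
/-- Generation descends to the smaller open. -/
theorem gen_descend (h : Gen X G O₂) : Gen X G O₁ := by
  intro L hL hv
  obtain ⟨L', i, hL', hi, hb⟩ := exists_ext H hO₁ hVc hL
  obtain ⟨a, ha⟩ := exists_res H.le G
  have hP := QC_lD_of_isPerfect X G hG (opn O₂)
  have h1 : IsZero L' := by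
    refine h L' hL' fun n => (homVan_iff _ L' (-n) n (by lia)).1 ?_
    exact (homVan_iff_of_bij hi hb ha hP (-n)).2 ((homVan_iff _ L (-n) n (by lia)).2 (hv n))
  have h2 : IsZero ((lD (opn O₁) (OEtRing X.obj)).obj L) := by
    have := hi.ism
    exact ((lD (opn O₁) (OEtRing X.obj)).map_isZero h1).of_iso (asIso ((lD (opn O₁) (OEtRing X.obj)).map i))
  exact isZero_of_isIso_iD hL.1 h2

include hXc hXs hG hF hO₁ hO₂ hO₂c hVc H in
/-- The vanishing condition passes to the smaller open. -/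
theorem transfer (hgen : Gen X G O₂) (l : List (B V)) (hl : ovr (opn O₁) V = oo V (OB V l)) (E : DModEt X.obj)
    (hE : QC (opn O₂) E)
    (h : ∀ᶠ i in F, HomVan ((lD (opn O₂) (OEtRing X.obj)).obj G) E i)
    (hK : ∀ᶠ i in F, HomVan (KK V l) E i) :
    ∀ᶠ i in F, HomVan ((lD (opn O₁) (OEtRing X.obj)).obj G) ((lD (opn O₁) (OEtRing X.obj)).obj E) i := by
  have hV' : IsAffine (sch V) := hVa
  obtain ⟨E', i, hE', hi, hb⟩ := exists_ext H hO₁ hVc (QC_lD (mem_opn_of_le H.le) hE)
  obtain ⟨φ, hφ⟩ := (hb _ (res_iD (opn O₁) E) hE).2 i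
  have hφ' : (iD (opn O₁) (OEtRing X.obj)).app E ≫ φ = i := hφ
  obtain ⟨Γ, g, δ, hT⟩ := distinguished_cocone_triangle φ
  have hΓ0 : IsZero ((lD (opn O₁) (OEtRing X.obj)).obj Γ) := by
    have h1 : IsIso ((lD (opn O₁) (OEtRing X.obj)).map φ) := by
      have h2 := (res_iD (opn O₁) E).ism
      have h3 : (lD (opn O₁) (OEtRing X.obj)).map ((iD (opn O₁) (OEtRing X.obj)).app E) ≫
          (lD (opn O₁) (OEtRing X.obj)).map φ = (lD (opn O₁) (OEtRing X.obj)).map i := by
        rw [← CategoryTheory.Functor.map_comp, hφ']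
      have h4 := hi.ism
      rw [← h3] at h4
      exact IsIso.of_isIso_comp_left ((lD (opn O₁) (OEtRing X.obj)).map ((iD (opn O₁) (OEtRing X.obj)).app E)) _
    exact (Triangle.isZero₃_iff_isIso₁ _ ((lD (opn O₁) (OEtRing X.obj)).map_distinguished _ hT)).2 h1
  have hΓ : QC (opn O₂) Γ := (QC (opn O₂)).ext_of_isTriangulatedClosed₃ _ hT hE hE'
  have hKE' : ∀ n, HomVan (KK V l) E' n := fun n =>
    (homVan_iff_of_bij hi hb (res_zero (isZero_KK l hl)) (QC_KK H l hl) n).2
      (HomVan.of_isZero_left (isZero_zero _) _ _)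
  have hKΓ : ∀ᶠ i in F, HomVan (KK V l) Γ i := by
    filter_upwards [(hF 1).eventually hK] with n hn
    exact HomVan.obj₃ hT rfl (hKE' n) hn
  obtain ⟨N, ⟨e⟩⟩ := exists_TD_iso V ((rD (OEtRing X.obj) V).obj Γ) (hΓ.2 V H.memV hV')
  have hN : ∀ᶠ i in F, IsZero ((DerivedCategory.homologyFunctor _ i).obj N) := by
    refine eventually_isZero_ring hF N l (Eventually.of_forall fun i => ?_) ?_
    · refine tors_of_isZero l hl N e i ?_
      exact ((isZero_lD_iff _ _).1 hΓ0 i)
    · filter_upwards [hKΓ] with n hn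
      exact homVan_ring _ N e n hn
  have hΓz : ∀ᶠ i in F, IsZero ((DerivedCategory.homologyFunctor _ i).obj Γ) := by
    filter_upwards [hN] with n hn
    exact isZero_of_local H ((isIso_iD_iff (opn O₂) Γ).1 hΓ.1 n) ((isZero_lD_iff _ _).1 hΓ0 n)
      ((isZero_homology_rD N e n).2 hn)
  have hI : intQ (QC (opn O₂)) ((lD (opn O₂) (OEtRing X.obj)).obj G) :=
    thick_W X hXc hXs O₂ hO₂ hO₂c (intQ (QC (opn O₂))) (fun E hE hE' A hA => intQ_cor _ E hE hE' A hA) G hG
  obtain ⟨a, ha⟩ := exists_res H.le G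
  filter_upwards [eventually_homVan hF hI hΓ hΓz, h] with n h1 h2
  exact (homVan_iff_of_bij hi hb ha (QC_lD_of_isPerfect X G hG (opn O₂)) n).1 (HomVan.obj₂ hT h2 h1)

include hXc hXs hG hF hO₁ hO₂ hO₂c hVc H in
theorem crit_step (h₁ : Gen X G O₁ → Crit X G F O₁) (hgen : Gen X G O₂) : Crit X G F O₂ := by
  have hV' : IsAffine (sch V) := hVa
  obtain ⟨l', hl'⟩ := exists_OL (Y := sch V) _ (hO₁.preimage (Points.continuous_ofPt V.obj.hom)) hVc
  obtain ⟨l, rfl⟩ : ∃ l : List (B V), l.map ULift.down = l' := ⟨l'.map ULift.up, by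
    rw [List.map_map]
    exact List.map_id l'⟩
  have hl : ovr (opn O₁) V = oo V (OB V l) := by
    rw [ovr_opn, hl']
  intro E hE h
  have hK : ∀ᶠ i in F, HomVan (KK V l) E i := by
    have := isTriangulated_vanF E hF
    exact prop_of_isCompactW X hXc hXs O₂ hO₂ hO₂c G hG hgen (vanF E F) h (KK V l) (QC_KK H l hl)
      (isCompact_KK H l)
  have h1 := transfer X hXc hXs G hG hF hO₁ hO₂ hO₂c hVc H hgen l hl E hE h hK
  have h2 := h₁ (gen_descend X G hG hO₁ hVc H hgen) _ (QC_lD (mem_opn_of_le H.le) hE) h1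
  have h3 : ∀ᶠ i in F, IsZero ((lam (opn O₁) (OEtRing X.obj)).obj ((DerivedCategory.homologyFunctor _ i).obj E)) := by
    filter_upwards [h2] with n hn
    exact hn.of_iso ((Groth.Agent.PerfA.ExactD.mapHomology (lam (opn O₁) (OEtRing X.obj)) n).app E).symm
  obtain ⟨N, ⟨e⟩⟩ := exists_TD_iso V ((rD (OEtRing X.obj) V).obj E) (hE.2 V H.memV hV')
  have hN : ∀ᶠ i in F, IsZero ((DerivedCategory.homologyFunctor _ i).obj N) := by
    refine eventually_isZero_ring hF N l ?_ ?_
    · filter_upwards [h3] with n hn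
      exact tors_of_isZero l hl N e n hn
    · filter_upwards [hK] with n hn
      exact homVan_ring _ N e n hn
  filter_upwards [h3, hN] with n hn hn'
  exact isZero_of_local H ((isIso_iD_iff (opn O₂) E).1 hE.1 n) hn ((isZero_homology_rD N e n).2 hn')

theorem crit_empty : Crit X G F ∅ := by
  intro E hE _
  refine Eventually.of_forall fun i => ?_
  have := (isIso_iD_iff _ E).1 hE.1 i
  exact (vanM_opn_empty _).of_iso (asIso (inc (opn ∅) _)).symm

include hXc hXs hG hF in
theorem crit_univ (h : Gen X G Set.univ) : Crit X G F Set.univ := by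
  refine K290.Ind.ind X hXc hXs (fun O => Gen X G O → Crit X G F O) (fun _ => crit_empty X G) ?_ h
  intro O₁ O₂ V h1 h2 h3 h4 h5 h6 H h₁ hgen
  have : IsAffine V.obj.left.left := h5
  exact crit_step X hXc hXs G hG hF h1 h3 h4 h6 H h₁ hgen

theorem QC_univ {E : DModEt X.obj} (hE : DCoh.IsQCohDMod (OEtRing X.obj) E) : QC (opn (Set.univ : Set (Points X.obj))) E :=
  ⟨isIso_iD_top (fun E => ⟨⊤, GrothendieckTopology.top_mem _ _, fun E' _ _ => mem_opn_univ E'⟩) E,
    fun E _ _ => qcAt_of_isQCoh hE E⟩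

include hXc hXs hG hF in
/-- The criterion. -/
theorem eventually_isZero
    (hgen : ∀ E : DModEt X.obj, DCoh.IsQCohDMod (OEtRing X.obj) E →
      (∀ (n : ℤ) (φ : G⟦n⟧ ⟶ E), φ = 0) → IsZero E)
    (E : DModEt X.obj) (hE : DCoh.IsQCohDMod (OEtRing X.obj) E) (h : ∀ᶠ i in F, HomVan G E i) :
    ∀ᶠ i in F, IsZero ((DerivedCategory.homologyFunctor _ i).obj E) := by
  have hi := isIso_iD_top (W := opn (Set.univ : Set (Points X.obj)))
    (fun _ => ⟨⊤, GrothendieckTopology.top_mem _ _, fun E' _ _ => mem_opn_univ E'⟩) G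
  let e : (lD (opn (Set.univ : Set (Points X.obj))) (OEtRing X.obj)).obj G ≅ G := asIso ((iD _ _).app G)
  refine crit_univ X hXc hXs G hG hF (fun L hL hv => hgen L ?_ fun n φ => ?_) E (QC_univ X hE) ?_
  · exact (isQCoh_iff_forall L).2 fun E hE => hL.2 E (mem_opn_univ E) hE
  · exact (cancel_epi ((shiftFunctor _ n).map e.hom)).1 ((hv n _).trans comp_zero.symm)
  · filter_upwards [h] with n hn
    exact hn.of_iso_left e.symm

end main

end K290.BddSp
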