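import Groth.Agent.AlgSp.K290.HomInt
import Groth.Agent.AlgSp.K644.Colim
import Groth.Agent.PerfA.Neeman
import Groth.Agent.LoccohB.RpushTri
import Groth.Agent.AlgSp.K294.QcSerre
import Groth.Agent.S10769

/-!
# Perfect objects are compact; a thick subcategory containing a perfect generator contains all compact objects
-/

set_option autoImplicit false

universe w v u

open CategoryTheory Category Limits Pretriangulated Triangulated DerivedCategory Opposite

open scoped ZeroObject

namespace K290.Compact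

open AlgebraicGeometry K290.HomBd AlgSp K646.EtSite K645.IsO Groth.Agent.PerfA.CompactRel
  Groth.Agent.CohtopA.Compact Groth.Agent.PerfA

attribute [local instance] HasDerivedCategory.standard

variable {S : Scheme.{u}}

/-- Elements of a direct sum are finite sums. -/
theorem exists_sum_of_hom_ext {B : Type w} [Ring B] {ι : Type v} {M : ι → ModuleCat.{w} B} {P : ModuleCat.{w} B}
    (j : ∀ i, M i ⟶ P) (h : ∀ (Q : ModuleCat.{w} B) (f g : P ⟶ Q), (∀ i, j i ≫ f = j i ≫ g) → f = g)
    (x : P) : ∃ (s : Finset ι) (y : ∀ i, M i), x = ∑ i ∈ s, j i (y i) := by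
  classical
  let N : Submodule B P := ⨆ i, LinearMap.range (j i).hom
  have h1 : ModuleCat.ofHom N.mkQ = 0 := by
    refine h _ _ _ fun i => ?_
    ext y
    change N.mkQ (j i y) = 0
    exact (Submodule.Quotient.mk_eq_zero _).2 (le_iSup (fun i => LinearMap.range (j i).hom) i ⟨y, rfl⟩)
  have h2 : x ∈ N := (Submodule.Quotient.mk_eq_zero _).1 (congrArg (fun k => k.hom x) h1)
  obtain ⟨f, hf, hx⟩ := (Submodule.mem_iSup_iff_exists_finsupp _ _).1 h2
  choose y hy using hf
  refine ⟨f.support, y, ?_⟩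
  rw [← hx]
  exact Finset.sum_congr rfl fun i _ => (hy i).symm

theorem exists_sum {X : Sp S} {ι : Type (u + 1)} {M : Discrete ι ⥤ ModEt X} {c : Cocone M} (hc : IsColimit c)
    (hM : ∀ i, (M.obj i).IsQuasicoherent) (E : EtOver X) (hE : IsAffine (sch E)) (x : c.pt.val.obj (op E)) :
    ∃ (s : Finset ι) (y : ∀ i, (M.obj ⟨i⟩).val.obj (op E)),
      x = ∑ i ∈ s, (c.ι.app ⟨i⟩).val.app (op E) (y i) := by
  obtain ⟨h⟩ := K644.Colim.isColimit_eval (T := EtOver.toScheme X) hc (fun k => by
    have : (M.obj k).IsQuasicoherent := hM k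
    exact K644.Chart.isQC (M.obj k)) E hE
  exact exists_sum_of_hom_ext (fun i : ι => ((SheafOfModules.evaluation (OEtRing X) (op E)).mapCocone c).ι.app ⟨i⟩)
    (fun Q f g hfg => h.hom_ext fun i => hfg i.as) x

/-- `j_! O_E` is compact, `E` affine. -/
theorem isCompact_cor {X : AlgSp.Space S} (E : EtOver X.obj) (hE : IsAffine (sch E)) (A : ModEt X.obj) (hA : Cor E A) :
    PerfAux.IsCompactObjRel.{u + 1} (fun L : DModEt X.obj => DCoh.IsQCohDMod (OEtRing X.obj) L)
      ((singleFunctor _ 0).obj A) := by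
  have := K646.DInst.hasProductsOfShape_nat (X := X.obj)
  have h0 := cor_OU.{u + 1} (R := OEtRing X.obj) E
  obtain ⟨e⟩ := hA.iso h0
  refine isCompactObjRel_of_iso ((singleFunctor _ 0).mapIso e.symm) ?_
  rw [isCompactObjRel_iff]
  intro ι L _ hL f
  have hq : ∀ L : DModEt X.obj, DCoh.IsQCohDMod (OEtRing X.obj) L →
      Function.Bijective (K646.DSec.hm : ((singleFunctor (ModEt X.obj) 0).obj (K646.Inst.OU E) ⟶ L) → _) :=
    fun L hL => K646.DSec.bijective_hm (K646.AcycX.acyc X.obj) (K := L) hL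
      (G := K646.Inst.OU E) ⟨E, hE, rfl⟩ 0
  have := K646.Inst.isGrothendieckAbelian X.obj
  have : AB4OfSize.{u + 1} (AlgSp.ModEt X.obj) := inferInstance
  have hx : HasExactColimitsOfShape (Discrete ι) (AlgSp.ModEt X.obj) := inferInstance
  have hp := Groth.Agent.CohtopB.DCoprod.preservesColimitsOfShape_homologyFunctor_derivedCategory
    (A := AlgSp.ModEt X.obj) (ι := ι) 0
  have hc := isColimitOfPreserves (DerivedCategory.homologyFunctor (AlgSp.ModEt X.obj) 0)
    (coproductIsCoproduct L)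
  obtain ⟨a, ha⟩ := h0
  obtain ⟨s, y, hy⟩ := exists_sum hc (fun i => hL i.as 0) E hE ((K646.DSec.hm f).val.app (op E) a)
  choose g hg using fun i => (ha ((homologyFunctor (ModEt X.obj) 0).obj (L i)) (y i)).exists
  choose g' hg' using fun i => (hq (L i) (hL i)).2 (g i)
  refine ⟨s, g', ?_⟩
  apply (hq _ (Groth.Agent.S10769.result X L hL)).1
  refine (ha _ _).unique rfl (Eq.trans ?_ hy.symm)
  let ev : (K646.Inst.OU E ⟶ (homologyFunctor (ModEt X.obj) 0).obj (∐ L)) →+
      ((homologyFunctor (ModEt X.obj) 0).obj (∐ L)).val.obj (op E) :=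
    { toFun := fun φ => φ.val.app (op E) a
      map_zero' := rfl
      map_add' := fun _ _ => rfl }
  have h1 : K646.DSec.hm (∑ i ∈ s, g' i ≫ (Cofan.mk (∐ L) (Sigma.ι L)).inj i) =
      ∑ i ∈ s, g i ≫ (homologyFunctor (ModEt X.obj) 0).map (Sigma.ι L i) := by
    unfold K646.DSec.hm
    rw [Functor.map_sum, Preadditive.comp_sum]
    refine Finset.sum_congr rfl fun i _ => ?_
    rw [← hg' i]
    exact K646.DSec.hm_comp (g' i) (Sigma.ι L i)
  rw [h1]
  refine (map_sum ev _ s).trans ?_
  refine Finset.sum_congr rfl fun i _ => ?_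
  rw [← hg i]
  rfl

/-- `D_QCoh(O_X)`. -/
abbrev dqc (X : Sp S) : ObjectProperty (DModEt X) := DCoh.IsQCohDMod (OEtRing X)

theorem dqc_eq (X : Sp S) : dqc X = CohomIn.coh (K294.QcSerre.qc X) := rfl

instance (X : Sp S) : (dqc X).IsTriangulated := K294.QcSerre.isTriangulated_isQCohDMod (X := X)

instance (X : Sp S) : (dqc X).IsClosedUnderIsomorphisms :=
  inferInstanceAs (CohomIn.coh (K294.QcSerre.qc X)).IsClosedUnderIsomorphisms

/-- Perfect objects are compact. -/
theorem isCompact_of_isPerfect [QuasiSeparatedSpace ↥S] (X : AlgSp.Space S) (hXc : AlgSp.IsQuasiCompactSp X.obj)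
    (hXs : AlgSp.IsQuasiSeparatedSp X.obj) (K : DModEt X.obj) (hK : IsPerfectEtD K) :
    PerfAux.IsCompactObjRel.{u + 1} (fun L : DModEt X.obj => DCoh.IsQCohDMod (OEtRing X.obj) L) K := by
  let P : ObjectProperty (DModEt X.obj) := fun K =>
    PerfAux.IsCompactObjRel.{u + 1} (fun L : DModEt X.obj => DCoh.IsQCohDMod (OEtRing X.obj) L) K
  have h1 : P.IsTriangulated :=
    isTriangulated_isCompactObjRel (fun n L hL => (dqc X.obj).le_shift n L hL)
  have h2 : P.IsClosedUnderIsomorphisms := ⟨fun e h => isCompactObjRel_of_iso e h⟩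
  have h3 : P.IsStableUnderRetracts := ⟨fun r h => isCompactObjRel_of_retract r h⟩
  exact K290.Thick.prop_of_isPerfect X hXc hXs P (fun E hE A hA => isCompact_cor E hE A hA) K hK

instance locallySmall_D (X : Sp S) : LocallySmall.{u + 1} (DModEt X) := by
  have := K646.Inst.isGrothendieckAbelian X
  exact Groth.Agent.LoccohB.RpushTri.locallySmall_derivedCategory Groth.Agent.LoccohB.RpushTri.hasKInj

instance (priority := 10000) hasCoproduct (X : Sp S) {ι : Type (u + 1)} (K : ι → DModEt X) : HasCoproduct K :=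
  (K646.DInst.hasCoproductsOfShape X ι).has_colimit _

theorem dqc_coprod (X : AlgSp.Space S) (ι : Type (u + 1)) (K : ι → DModEt X.obj) (hK : ∀ i, dqc X.obj (K i)) :
    dqc X.obj (∐ K) :=
  Groth.Agent.S10769.result X K hK

/-- A thick subcategory of `D(O_X)` containing a perfect generator of `D_QCoh(O_X)` contains all compact objects of
`D_QCoh(O_X)`. -/
theorem prop_of_isCompact [QuasiSeparatedSpace ↥S] (X : AlgSp.Space S) (hXc : AlgSp.IsQuasiCompactSp X.obj)
    (hXs : AlgSp.IsQuasiSeparatedSp X.obj) (G : DModEt X.obj) (hG : IsPerfectEtD G)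
    (hgen : ∀ L : DModEt X.obj, DCoh.IsQCohDMod (OEtRing X.obj) L →
      (∀ (n : ℤ) (φ : G⟦n⟧ ⟶ L), φ = 0) → IsZero L)
    (P : ObjectProperty (DModEt X.obj)) [P.IsTriangulated] [P.IsStableUnderRetracts] (hP : P G)
    (K : DModEt X.obj) (hK : DCoh.IsQCohDMod (OEtRing X.obj) K)
    (hK' : PerfAux.IsCompactObjRel.{u + 1} (fun L : DModEt X.obj => DCoh.IsQCohDMod (OEtRing X.obj) L) K) :
    P K := by
  have h1 : HasCoproducts.{u + 1} (DModEt X.obj) := fun J => K646.DInst.hasCoproductsOfShape X.obj J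
  refine Neeman.prop_of_isCompactObjRel (Q := dqc X.obj) (dqc_coprod X) (J := PUnit) (fun _ => G)
    (fun _ => K645.Int.isQCoh_of_isPerfect hG) (fun _ m K _ => inferInstance)
    (fun K hK h => hgen K hK (h PUnit.unit))
    (fun _ => isCompact_of_isPerfect X hXc hXs G hG) P (fun _ => hP) K hK hK'

/-- A thick subcategory of `D(O_X)` containing a perfect generator of `D_QCoh(O_X)` contains all perfect objects. -/
theorem prop_of_isPerfect [QuasiSeparatedSpace ↥S] (X : AlgSp.Space S) (hXc : AlgSp.IsQuasiCompactSp X.obj)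
    (hXs : AlgSp.IsQuasiSeparatedSp X.obj) (G : DModEt X.obj) (hG : IsPerfectEtD G)
    (hgen : ∀ L : DModEt X.obj, DCoh.IsQCohDMod (OEtRing X.obj) L →
      (∀ (n : ℤ) (φ : G⟦n⟧ ⟶ L), φ = 0) → IsZero L)
    (P : ObjectProperty (DModEt X.obj)) [P.IsTriangulated] [P.IsStableUnderRetracts] (hP : P G)
    (K : DModEt X.obj) (hK : IsPerfectEtD K) : P K :=
  prop_of_isCompact X hXc hXs G hG hgen P hP K (K645.Int.isQCoh_of_isPerfect hK)
    (isCompact_of_isPerfect X hXc hXs K hK)

end K290.Compact
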