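import Groth.Agent.AlgSp.K645.DNat

/-!
# Natural transformations `F ⟶ 𝟭` of exact endofunctors and counits, on derived categories
-/

set_option autoImplicit false

universe w₁ w₂ w₃ v₁ v₂ v₃ u₁ u₂ u₃

open CategoryTheory Limits

namespace K290.DId

open Groth.Agent.PerfA.ExactD Groth.Agent.PerfA.MVAbs K645.DNat

variable {A : Type u₁} [Category.{v₁} A] [Abelian A] [HasDerivedCategory.{w₁} A]
  {B : Type u₂} [Category.{v₂} B] [Abelian B] [HasDerivedCategory.{w₂} B]
  {C : Type u₃} [Category.{v₃} C] [Abelian C] [HasDerivedCategory.{w₃} C]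

/-- `G(a ≫ f ≫ b)` is an isomorphism iff `G f` is, for isomorphisms `a` and `b`. -/
theorem isIso_map_comp_iff {X Y Z W : B} (G : B ⥤ C) (a : X ⟶ Y) (f : Y ⟶ Z) (b : Z ⟶ W)
    [IsIso a] [IsIso b] : IsIso (G.map (a ≫ f ≫ b)) ↔ IsIso (G.map f) := by
  rw [G.map_comp, G.map_comp, isIso_comp_left_iff, isIso_comp_right_iff]

section

variable (F : A ⥤ B) [F.Additive] [PreservesFiniteLimits F] [PreservesFiniteColimits F]

/-- A morphism is sent to an isomorphism by `F` iff `F` sends its cohomology to isomorphisms. -/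
theorem isIso_map_iff {K L : DerivedCategory A} (f : K ⟶ L) :
    IsIso (F.mapDerivedCategory.map f) ↔
      ∀ n : ℤ, IsIso (F.map ((DerivedCategory.homologyFunctor A n).map f)) := by
  rw [DerivedCategory.isIso_iff]
  refine forall_congr' fun n => ?_
  exact NatIso.isIso_map_iff (mapHomology F n) f

/-- `F K` vanishes iff `F` kills the cohomology of `K`. -/
theorem isZero_map_iff (K : DerivedCategory A) :
    IsZero (F.mapDerivedCategory.obj K) ↔
      ∀ n : ℤ, IsZero (F.obj ((DerivedCategory.homologyFunctor A n).obj K)) := by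
  rw [isZero_iff]
  exact forall_congr' fun n => ((mapHomology F n).app K).isZero_iff

end

section

variable {F : A ⥤ A} [F.Additive] [PreservesFiniteLimits F] [PreservesFiniteColimits F]
  (α : F ⟶ 𝟭 A)

/-- The natural transformation `F.mapDerivedCategory ⟶ 𝟭` induced by `F ⟶ 𝟭`. -/
noncomputable def toId : F.mapDerivedCategory ⟶ 𝟭 (DerivedCategory A) := mapD α ≫ (mapDId A).hom

@[reassoc]
theorem toId_naturality {K L : DerivedCategory A} (f : K ⟶ L) :
    F.mapDerivedCategory.map f ≫ (toId α).app L = (toId α).app K ≫ f := (toId α).naturality f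

/-- Up to isomorphisms the cohomology of `toId α` is `α` at the cohomology. -/
theorem homology_toId (K : DerivedCategory A) (n : ℤ) :
    ∃ (a : (DerivedCategory.homologyFunctor A n).obj (F.mapDerivedCategory.obj K) ⟶
        F.obj ((DerivedCategory.homologyFunctor A n).obj K))
      (b : (DerivedCategory.homologyFunctor A n).obj K ⟶ (DerivedCategory.homologyFunctor A n).obj K),
      IsIso a ∧ IsIso b ∧ (DerivedCategory.homologyFunctor A n).map ((toId α).app K) =
        a ≫ α.app ((DerivedCategory.homologyFunctor A n).obj K) ≫ b := by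
  refine ⟨(mapHomology F n).hom.app K, inv ((mapHomology (𝟭 A) n).hom.app K) ≫
    (DerivedCategory.homologyFunctor A n).map ((mapDId A).hom.app K), inferInstance, inferInstance, ?_⟩
  have h := mapD_homology α K n
  have h1 : (DerivedCategory.homologyFunctor A n).map ((mapD α).app K) =
      (mapHomology F n).hom.app K ≫ α.app ((DerivedCategory.homologyFunctor A n).obj K) ≫
        inv ((mapHomology (𝟭 A) n).hom.app K) := by
    rw [← Category.assoc, IsIso.eq_comp_inv]
    exact h.symm
  change (DerivedCategory.homologyFunctor A n).map ((mapD α).app K ≫ (mapDId A).hom.app K) = _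
  rw [Functor.map_comp, h1, Category.assoc, Category.assoc]

theorem isIso_toId_app_iff (K : DerivedCategory A) :
    IsIso ((toId α).app K) ↔
      ∀ n : ℤ, IsIso (α.app ((DerivedCategory.homologyFunctor A n).obj K)) := by
  rw [DerivedCategory.isIso_iff]
  refine forall_congr' fun n => ?_
  obtain ⟨a, b, _, _, h⟩ := homology_toId α K n
  rw [h, isIso_comp_left_iff, isIso_comp_right_iff]

theorem isIso_map_toId_app_iff (G : A ⥤ B) [G.Additive] [PreservesFiniteLimits G]
    [PreservesFiniteColimits G] (K : DerivedCategory A) :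
    IsIso (G.mapDerivedCategory.map ((toId α).app K)) ↔
      ∀ n : ℤ, IsIso (G.map (α.app ((DerivedCategory.homologyFunctor A n).obj K))) := by
  rw [isIso_map_iff]
  refine forall_congr' fun n => ?_
  obtain ⟨a, b, _, _, h⟩ := homology_toId α K n
  rw [h, isIso_map_comp_iff]

theorem isIso_map_map_toId_app_iff (G : A ⥤ B) [G.Additive] [PreservesFiniteLimits G]
    [PreservesFiniteColimits G] (G' : B ⥤ C) [G'.Additive] [PreservesFiniteLimits G']
    [PreservesFiniteColimits G'] (K : DerivedCategory A) :
    IsIso (G'.mapDerivedCategory.map (G.mapDerivedCategory.map ((toId α).app K))) ↔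
      ∀ n : ℤ, IsIso (G'.map (G.map (α.app ((DerivedCategory.homologyFunctor A n).obj K)))) := by
  rw [isIso_map_iff]
  refine forall_congr' fun n => ?_
  obtain ⟨a, b, _, _, h⟩ := homology_toId α K n
  have h1 : IsIso (G'.map ((DerivedCategory.homologyFunctor B n).map (G.mapDerivedCategory.map ((toId α).app K)))) ↔
      IsIso (G'.map (G.map ((DerivedCategory.homologyFunctor A n).map ((toId α).app K)))) :=
    NatIso.isIso_map_iff (Functor.isoWhiskerRight (mapHomology G n) G') ((toId α).app K)
  rw [h1, h]
  exact isIso_map_comp_iff (G ⋙ G') _ _ _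

/-- A map from an object on which `F ⟶ 𝟭` is invertible to an object killed by `F` vanishes. -/
theorem eq_zero_of_isIso_toId {P K : DerivedCategory A} (hP : IsIso ((toId α).app P))
    (hK : IsZero (F.mapDerivedCategory.obj K)) (f : P ⟶ K) : f = 0 := by
  rw [← cancel_epi ((toId α).app P), comp_zero, ← toId_naturality, hK.eq_of_tgt (F.mapDerivedCategory.map f) 0,
    zero_comp]

end

section adj

open DerivedCategory Groth.Agent.PerfB.DQAdj Groth.Agent.PerfC.AdjD

variable {L : A ⥤ B} {R : B ⥤ A} (adj : L ⊣ R) [L.Additive] [R.Additive]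
  [PreservesFiniteLimits L] [PreservesFiniteColimits L]
  [PreservesFiniteLimits R] [PreservesFiniteColimits R]

lemma adjD_counit_app (K : CochainComplex B ℤ) :
    (adjD adj).counit.app (Q.obj K) = L.mapDerivedCategory.map (R.mapDerivedCategoryFactors.hom.app K) ≫
      L.mapDerivedCategoryFactors.hom.app ((Groth.Agent.PerfB.DQAdj.mapCx R).obj K) ≫ Q.map (counitCx adj K) :=
  letI : CatCommSq (Groth.Agent.PerfB.DQAdj.mapCx L) Q Q L.mapDerivedCategory := ⟨L.mapDerivedCategoryFactors.symm⟩
  letI : CatCommSq (Groth.Agent.PerfB.DQAdj.mapCx R) Q Q R.mapDerivedCategory := ⟨R.mapDerivedCategoryFactors.symm⟩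
  Adjunction.localization_counit_app (adjCx adj) Q
    (HomologicalComplex.quasiIso A (ComplexShape.up ℤ))
    Q (HomologicalComplex.quasiIso B (ComplexShape.up ℤ)) L.mapDerivedCategory
    R.mapDerivedCategory K

theorem isIso_adjD_counit_app_iff (K : DerivedCategory B) :
    IsIso ((adjD adj).counit.app K) ↔
      ∀ n : ℤ, IsIso (adj.counit.app ((DerivedCategory.homologyFunctor B n).obj K)) := by
  have h1 := isIso_mapD_app_iff (F := R ⋙ L) (G := 𝟭 B) adj.counit K
  refine Iff.trans ?_ h1
  let K' := Q.objPreimage K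
  let e : Q.obj K' ≅ K := Q.objObjPreimageIso K
  rw [← NatTrans.isIso_app_iff_of_iso (adjD adj).counit e,
    ← NatTrans.isIso_app_iff_of_iso (mapD (F := R ⋙ L) (G := 𝟭 B) adj.counit) e, adjD_counit_app, mapD_app]
  have h2 : IsIso (Q.map (counitCx adj K')) ↔
      IsIso (Q.map (Groth.Agent.PerfA.MVAbs.mapCx (F := R ⋙ L) (G := 𝟭 B) adj.counit K')) := Iff.rfl
  constructor
  · intro h
    have h3 := (isIso_comp_left_iff (L.mapDerivedCategory.map (R.mapDerivedCategoryFactors.hom.app K')) _).1 h
    have h4 := (isIso_comp_left_iff _ _).1 h3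
    have := h2.1 h4
    infer_instance
  · intro h
    have h3 := (isIso_comp_left_iff _ _).1 h
    have h4 := (isIso_comp_right_iff _ _).1 h3
    have := h2.2 h4
    infer_instance

end adj

end K290.DId
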