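import Groth.Agent.AlgSp.K290.DId
import Groth.Agent.AlgSp.K645.ElemMV

/-!
# The idempotents `j_! j^*` and extension by zero from a slice on derived categories

For opens `U`, `W` of a site and an object `V`: `lD U = j_! j^*`, `iD U : lD U ⟶ 𝟭`, `rD V = f^*`, `sD V = f_!`,
with excision and the Mayer–Vietoris triangle for elementary squares.
-/

set_option autoImplicit false
set_option linter.unusedSectionVars false
universe u

open CategoryTheory CategoryTheory.Limits Opposite

attribute [local instance] HasDerivedCategory.standard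

namespace K290.DIdem
open K645.Ex K645.Lam K645.Shriek K645.Square K290.DId Groth.Agent.PerfA.ExactD

variable {C : Type (u + 1)} [Category.{u} C] {J : GrothendieckTopology C} {R : Sheaf J RingCat.{u + 1}}
  {V : C} {U W : Opn C}
  [HasSheafify J AddCommGrpCat.{u + 1}] [J.WEqualsLocallyBijective AddCommGrpCat.{u + 1}]

/-- The derived category of modules. -/
abbrev DR (R : Sheaf J RingCat.{u + 1}) : Type (u + 2) := DerivedCategory (SheafOfModules.{u + 1} R)

/-- `j_! j^*` on the derived category. -/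
noncomputable abbrev lD (U : Opn C) (R : Sheaf J RingCat.{u + 1}) : DR R ⥤ DR R :=
  (lam U R).mapDerivedCategory

/-- `j_! j^* ⟶ 𝟭` on the derived category. -/
noncomputable abbrev iD (U : Opn C) (R : Sheaf J RingCat.{u + 1}) : lD U R ⟶ 𝟭 (DR R) := toId (ι U R)

section

variable (U) in
lemma isIso_iD_iff (K : DR R) : IsIso ((iD U R).app K) ↔
    ∀ n : ℤ, IsIso (inc U ((DerivedCategory.homologyFunctor _ n).obj K)) :=
  isIso_toId_app_iff (ι U R) K

variable (U) in
lemma isZero_lD_iff (K : DR R) : IsZero ((lD U R).obj K) ↔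
    ∀ n : ℤ, IsZero ((lam U R).obj ((DerivedCategory.homologyFunctor _ n).obj K)) :=
  isZero_map_iff _ _

variable (U) in
@[reassoc]
lemma lD_map_iD {K L : DR R} (f : K ⟶ L) : (lD U R).map f ≫ (iD U R).app L = (iD U R).app K ≫ f :=
  toId_naturality _ f

variable (U) in
/-- The property of being supported in an open is invariant under isomorphisms. -/
lemma isIso_iD_of_iso {K L : DR R} (e : K ≅ L) (h : IsIso ((iD U R).app K)) : IsIso ((iD U R).app L) :=
  (NatTrans.isIso_app_iff_of_iso (iD U R) e).1 h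

variable (U) in
lemma isIso_inc_of_iso {M N : SheafOfModules.{u + 1} R} (e : M ≅ N) (h : IsIso (inc U M)) :
    IsIso (inc U N) :=
  (NatTrans.isIso_app_iff_of_iso (ι U R) e).1 h

lemma LE_refl (U : Opn C) : LE J U U := fun _ h => ⟨⊤, J.top_mem _, fun _ e _ => U.down e h⟩

/-- (I2) Maps from an object supported in `U` to an object vanishing on `U`. -/
theorem eq_zero {P K : DR R} (hP : IsIso ((iD U R).app P)) (hK : IsZero ((lD U R).obj K))
    (f : P ⟶ K) : f = 0 :=
  eq_zero_of_isIso_toId (ι U R) hP hK f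

/-- (I1) `j_! j^* K` is supported in `U`; more generally (I9) for `U ≤ W`. -/
theorem isIso_iD_lD (h : LE J U W) (K : DR R) : IsIso ((iD W R).app ((lD U R).obj K)) := by
  rw [isIso_iD_iff]
  intro n
  exact isIso_inc_of_iso W ((mapHomology (lam U R) n).app K).symm (isIso_inc_obj h _)

/-- (I1), (I9) -/
theorem isIso_lD_map_iD (h : LE J U W) (K : DR R) : IsIso ((lD U R).map ((iD W R).app K)) := by
  rw [isIso_map_toId_app_iff]
  intro n
  exact isIso_lam_map_inc h _

/-- (I1) -/
theorem isIso_iD_lD_self (K : DR R) : IsIso ((iD U R).app ((lD U R).obj K)) := isIso_iD_lD (LE_refl U) K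

/-- (I1) -/
theorem isIso_lD_map_iD_self (K : DR R) : IsIso ((lD U R).map ((iD U R).app K)) :=
  isIso_lD_map_iD (LE_refl U) K

/-- Objects supported in `U` are supported in `W ≥ U`. -/
theorem isIso_iD_mono (h : LE J U W) {K : DR R} (hK : IsIso ((iD U R).app K)) :
    IsIso ((iD W R).app K) :=
  isIso_iD_of_iso W (asIso ((iD U R).app K)) (isIso_iD_lD h K)

/-- `K` vanishes on `U` if it vanishes on `W ≥ U`. -/
theorem isZero_lD_mono (h : LE J U W) {K : DR R} (hK : IsZero ((lD W R).obj K)) :
    IsZero ((lD U R).obj K) :=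
  have := isIso_lD_map_iD h K
  ((lD U R).map_isZero hK).of_iso (asIso ((lD U R).map ((iD W R).app K))).symm

/-- An object supported in `U` and vanishing on `U` is zero. -/
theorem isZero_of_isIso_iD {K : DR R} (hK : IsIso ((iD U R).app K)) (h : IsZero ((lD U R).obj K)) :
    IsZero K := h.of_iso (asIso ((iD U R).app K)).symm

end

/-- Restriction to the slice on derived categories. -/
noncomputable abbrev rD (R : Sheaf J RingCat.{u + 1}) (V : C) : DR R ⥤ DR (R.over V) :=
  (rst R V).mapDerivedCategory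

/-- Extension by zero from the slice on derived categories. -/
noncomputable abbrev sD (R : Sheaf J RingCat.{u + 1}) (V : C) : DR (R.over V) ⥤ DR R :=
  (shriek R V).mapDerivedCategory

/-- The adjunction `f_! ⊣ f^*` on derived categories. -/
noncomputable abbrev adjSR (R : Sheaf J RingCat.{u + 1}) (V : C) : sD R V ⊣ rD R V :=
  Groth.Agent.PerfC.AdjD.adjD (K645.Shriek.adj R V)

/-- (I3) `f_!` of an object supported over `U` is supported in `U`. -/
theorem isIso_iD_sD (U : Opn C) {P : DR (R.over V)} (hP : IsIso ((iD (ovr U V) (R.over V)).app P)) :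
    IsIso ((iD U R).app ((sD R V).obj P)) := by
  rw [isIso_iD_iff] at hP ⊢
  intro n
  refine isIso_inc_of_iso U ((mapHomology (shriek R V) n).app P).symm ?_
  have h := hP n
  have := isIso_inc_shriek (U := U) ((DerivedCategory.homologyFunctor _ n).obj P)
  exact isIso_inc_of_iso U ((shriek R V).mapIso (asIso (inc (ovr U V) _))) this

/-- (I3) -/
theorem isIso_lD_map_sD_map_iD (U : Opn C) (P : DR (R.over V)) :
    IsIso ((lD U R).map ((sD R V).map ((iD (ovr U V) (R.over V)).app P))) := by
  rw [isIso_map_map_toId_app_iff]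
  intro n
  exact isIso_lam_map_shriek_map_inc _

/-- (I4) `f^* j_! j^* K` is supported over `U`. -/
theorem isIso_iD_rD_lD (U : Opn C) (K : DR R) :
    IsIso ((iD (ovr U V) (R.over V)).app ((rD R V).obj ((lD U R).obj K))) := by
  rw [isIso_iD_iff]
  intro n
  refine isIso_inc_of_iso (ovr U V) (((mapHomology (rst R V) n).app _) ≪≫
    (rst R V).mapIso ((mapHomology (lam U R) n).app K)).symm (isIso_inc_rst _)

/-- (I4) `f^*` of an object supported in `U` is supported over `U`. -/
theorem isIso_iD_rD (U : Opn C) {K : DR R} (hK : IsIso ((iD U R).app K)) :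
    IsIso ((iD (ovr U V) (R.over V)).app ((rD R V).obj K)) :=
  isIso_iD_of_iso _ ((rD R V).mapIso (asIso ((iD U R).app K))) (isIso_iD_rD_lD U K)

/-- (I4) -/
theorem isIso_lD_map_rD_map_iD (U : Opn C) (K : DR R) :
    IsIso ((lD (ovr U V) (R.over V)).map ((rD R V).map ((iD U R).app K))) := by
  rw [isIso_map_map_toId_app_iff]
  intro n
  exact isIso_lam_map_rst_map_inc _

/-- If `K` vanishes on `U` then `f^* K` vanishes over `U`. -/
theorem isZero_lD_rD (U : Opn C) {K : DR R} (hK : IsZero ((lD U R).obj K)) :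
    IsZero ((lD (ovr U V) (R.over V)).obj ((rD R V).obj K)) := by
  have := isIso_lD_map_rD_map_iD (V := V) U K
  exact ((lD (ovr U V) (R.over V)).map_isZero ((rD R V).map_isZero hK)).of_iso
    (asIso ((lD (ovr U V) (R.over V)).map ((rD R V).map ((iD U R).app K)))).symm

/-- If `N` vanishes over `U` then `f_! N` vanishes on `U`. -/
theorem isZero_lD_sD (U : Opn C) {N : DR (R.over V)} (hN : IsZero ((lD (ovr U V) (R.over V)).obj N)) :
    IsZero ((lD U R).obj ((sD R V).obj N)) := by
  have := isIso_lD_map_sD_map_iD U N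
  exact ((lD U R).map_isZero ((sD R V).map_isZero hN)).of_iso
    (asIso ((lD U R).map ((sD R V).map ((iD (ovr U V) (R.over V)).app N)))).symm

section Elem

variable (H : Elem J V U W)
include H

/-- `f_! N` is supported in `W`. -/
theorem isIso_iD_W (N : DR (R.over V)) : IsIso ((iD W R).app ((sD R V).obj N)) := by
  rw [isIso_iD_iff]
  intro n
  exact isIso_inc_of_iso W ((mapHomology (shriek R V) n).app N).symm (isIso_inc_W H _)

/-- (I6) Excision: `N ⟶ f^* f_! N` is an isomorphism if `N` vanishes over `U`. -/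
theorem isIso_unit {N : DR (R.over V)} (hN : IsZero ((lD (ovr U V) (R.over V)).obj N)) :
    IsIso ((adjSR R V).unit.app N) := by
  rw [K645.DNat.isIso_adjD_unit_app_iff]
  rw [isZero_lD_iff] at hN
  intro n
  exact isIso_unit_of_van H ((van_iff _).1 (hN n))

/-- (I5) Excision: `f_! f^* K ⟶ K` is an isomorphism if `K` is supported in `W` and vanishes on `U`. -/
theorem isIso_counit {K : DR R} (hW : IsIso ((iD W R).app K)) (hU : IsZero ((lD U R).obj K)) :
    IsIso ((adjSR R V).counit.app K) := by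
  rw [isIso_adjD_counit_app_iff]
  rw [isIso_iD_iff] at hW
  rw [isZero_lD_iff] at hU
  intro n
  have h1 := hW n
  have h2 := isIso_lam_counit_of_vanM (V := V) H ((vanM_iff _).1 (hU n))
  have h3 := isIso_inc_W (R := R) H ((rst R V).obj ((DerivedCategory.homologyFunctor _ n).obj K))
  have h4 : (lam W R).map (counitHom (V := V) ((DerivedCategory.homologyFunctor _ n).obj K)) ≫ inc W _ =
      inc W _ ≫ counitHom ((DerivedCategory.homologyFunctor _ n).obj K) := lam_map_inc W _
  have h5 : counitHom (V := V) ((DerivedCategory.homologyFunctor _ n).obj K) =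
      inv (inc W _) ≫ (lam W R).map (counitHom ((DerivedCategory.homologyFunctor _ n).obj K)) ≫ inc W _ := by
    rw [h4, IsIso.inv_hom_id_assoc]
  change IsIso (counitHom (V := V) ((DerivedCategory.homologyFunctor _ n).obj K))
  rw [h5]
  infer_instance

open Pretriangulated in
/-- (I7) The Mayer–Vietoris triangle of an elementary square. -/
theorem exists_mv (K : DR R) :
    ∃ (a : (sD R V).obj ((lD (ovr U V) (R.over V)).obj ((rD R V).obj K)) ⟶
          (lD U R).obj K ⊞ (sD R V).obj ((rD R V).obj K))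
      (b : (lD U R).obj K ⊞ (sD R V).obj ((rD R V).obj K) ⟶ (lD W R).obj K)
      (c : (lD W R).obj K ⟶ ((sD R V).obj ((lD (ovr U V) (R.over V)).obj ((rD R V).obj K)))⟦(1 : ℤ)⟧),
      Triangle.mk a b c ∈ distTriang (DR R) := by
  have i1 : PreservesFiniteLimits (lam (ovr U V) (R.over V) ⋙ shriek R V) := comp_preservesFiniteLimits _ _
  have i2 : PreservesFiniteColimits (lam (ovr U V) (R.over V) ⋙ shriek R V) :=
    comp_preservesFiniteColimits _ _
  have i3 : PreservesFiniteLimits (F1 U R V) := comp_preservesFiniteLimits _ _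
  have i4 : PreservesFiniteColimits (F1 U R V) := comp_preservesFiniteColimits _ _
  have i5 : PreservesFiniteLimits (F2 R V) := comp_preservesFiniteLimits _ _
  have i6 : PreservesFiniteColimits (F2 R V) := comp_preservesFiniteColimits _ _
  obtain ⟨a, b, c, h⟩ := Groth.Agent.PerfA.MVAbs.exists_triangle (al U R V) (al' U R V) (ιLE H.le R)
    (be' H.memV R) (elem_comm H) (elem_shortExact H) K
  have e₁ : (F1 U R V).mapDerivedCategory.obj K ≅
      (sD R V).obj ((lD (ovr U V) (R.over V)).obj ((rD R V).obj K)) :=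
    ((mapDComp (F := rst R V) (G := lam (ovr U V) (R.over V) ⋙ shriek R V) (Iso.refl _)).symm.app K) ≪≫
      ((mapDComp (F := lam (ovr U V) (R.over V)) (G := shriek R V) (Iso.refl _)).symm.app ((rD R V).obj K))
  have e₂ : (F2 R V).mapDerivedCategory.obj K ≅ (sD R V).obj ((rD R V).obj K) :=
    (mapDComp (F := rst R V) (G := shriek R V) (Iso.refl _)).symm.app K
  exact ⟨_, _, _, Groth.Agent.PerfA.MVAbs.isom_dist _ h e₁ (biprod.mapIso (Iso.refl _) e₂) (Iso.refl _)⟩

/-- (I8) -/
theorem isZero_lD_W {K : DR R} (hU : IsZero ((lD U R).obj K)) (hV : IsZero ((rD R V).obj K)) :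
    IsZero ((lD W R).obj K) := by
  obtain ⟨a, b, c, h⟩ := exists_mv H K
  have h1 : IsZero ((lD U R).obj K ⊞ (sD R V).obj ((rD R V).obj K)) :=
    (biprod_isZero_iff _ _).2 ⟨hU, (sD R V).map_isZero hV⟩
  have h2 : IsZero ((sD R V).obj ((lD (ovr U V) (R.over V)).obj ((rD R V).obj K))) :=
    (sD R V).map_isZero ((lD (ovr U V) (R.over V)).map_isZero hV)
  exact Pretriangulated.Triangle.isZero₃_of_isZero₁₂ _ h h2 h1

open Pretriangulated in
/-- Triangulated properties and elementary squares. -/
theorem prop_lD_W (P : ObjectProperty (DR R)) [P.IsTriangulated] [P.IsClosedUnderIsomorphisms]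
    (K : DR R) (h₁ : P ((sD R V).obj ((lD (ovr U V) (R.over V)).obj ((rD R V).obj K))))
    (h₂ : P ((lD U R).obj K)) (h₃ : P ((sD R V).obj ((rD R V).obj K))) : P ((lD W R).obj K) := by
  obtain ⟨a, b, c, hT⟩ := exists_mv H K
  have h : P ((lD U R).obj K ⊞ (sD R V).obj ((rD R V).obj K)) :=
    P.ext_of_isTriangulatedClosed₂ _ (binaryBiproductTriangle_distinguished _ _) h₂ h₃
  exact P.ext_of_isTriangulatedClosed₃ _ hT h₁ h

end Elem

section MV

variable (h₁ : LE J U W) {U' : Opn C} (h₂ : LE J U' W)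
  (hW : ∀ E : C, W.mem E → ∃ T ∈ J E, ∀ ⦃E' : C⦄ (e : E' ⟶ E), T e → U.mem E' ∨ U'.mem E')

include h₁ h₂ hW

open Pretriangulated in
/-- (I10) The Mayer–Vietoris triangle of two opens. -/
theorem exists_mv' (K : DR R) :
    ∃ (a : (lD (inter U U') R).obj K ⟶ (lD U R).obj K ⊞ (lD U' R).obj K)
      (b : (lD U R).obj K ⊞ (lD U' R).obj K ⟶ (lD W R).obj K)
      (c : (lD W R).obj K ⟶ ((lD (inter U U') R).obj K)⟦(1 : ℤ)⟧),
      Triangle.mk a b c ∈ distTriang (DR R) :=
  Groth.Agent.PerfA.MVAbs.exists_triangle (ιLE (inter_le_left U U') R) (ιLE (inter_le_right U U') R)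
      (ιLE h₁ R) (ιLE h₂ R) (incLE_comm h₁ h₂) (mv_shortExact h₁ h₂ hW) K

open Pretriangulated in
theorem prop_lD_union (P : ObjectProperty (DR R)) [P.IsTriangulated] [P.IsClosedUnderIsomorphisms]
    (K : DR R) (k₁ : P ((lD (inter U U') R).obj K)) (k₂ : P ((lD U R).obj K)) (k₃ : P ((lD U' R).obj K)) :
    P ((lD W R).obj K) := by
  obtain ⟨a, b, c, hT⟩ := exists_mv' h₁ h₂ hW K
  have h : P ((lD U R).obj K ⊞ (lD U' R).obj K) :=
    P.ext_of_isTriangulatedClosed₂ _ (binaryBiproductTriangle_distinguished _ _) k₂ k₃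
  exact P.ext_of_isTriangulatedClosed₃ _ hT k₁ h

end MV

section Same

omit [HasSheafify J AddCommGrpCat.{u + 1}] [J.WEqualsLocallyBijective AddCommGrpCat.{u + 1}] in
/-- `sub` only depends on the open up to local equality. -/
lemma isZero_lam_of_le (h : LE J U W) {M : SheafOfModules.{u + 1} R} (hM : IsZero ((lam W R).obj M)) :
    IsZero ((lam U R).obj M) := by
  rw [isZero_lam_iff] at hM ⊢
  intro E hE m
  obtain ⟨T, hT, h'⟩ := h E hE
  exact section_ext M T hT _ _ fun E' e he => (hM E' (h' e he) _).trans (map_zero _).symm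

/-- `j_! j^* = 𝟭` for an open containing everything. -/
lemma isIso_iD_top (h : ∀ E : C, ∃ T ∈ J E, ∀ ⦃E' : C⦄ (e : E' ⟶ E), T e → W.mem E') (K : DR R) :
    IsIso ((iD W R).app K) := by
  rw [isIso_iD_iff]
  intro n
  refine isIso_of_local _ (fun E x hx => ap_inc_injective _ _ E (by rw [hx, map_zero])) (fun E y => ?_)
  obtain ⟨T, hT, h'⟩ := h E
  refine ⟨T, hT, fun E' e he => ?_⟩
  obtain ⟨x, hx⟩ := exists_ap_inc W _ E' (res _ e y) (mem_sub_of_mem W _ (h' e he) _)
  exact ⟨x, hx⟩

/-- `j_! j^* = 0` for the empty open. -/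
lemma isZero_lD_bot (h : ∀ E : C, W.mem E → (⊥ : Sieve E) ∈ J E) (K : DR R) :
    IsZero ((lD W R).obj K) := by
  rw [isZero_lD_iff]
  intro n
  rw [isZero_lam_iff]
  intro E hE m
  exact section_ext _ ⊥ (h E hE) _ _ fun E' e he => he.elim

end Same

end K290.DIdem
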