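import Groth.Agent.AlgSp.K290.DIdem
import Groth.Agent.AlgSp.K646.MVSq
import Groth.Agent.AlgSp.K598.OpenInd

/-!
# Elementary distinguished squares give elementary squares of the small etale site
-/

set_option autoImplicit false

universe u

open CategoryTheory CategoryTheory.Limits AlgebraicGeometry Opposite
open AlgSp K646.EtSite K645.Lam K645.Square

set_option backward.isDefEq.respectTransparency false

namespace K290.ElemSq

variable {S : Scheme.{u}} {X : AlgSp.Sp S}

/-- The open of the small etale site given by a set of points. -/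
def opn (O : Set (Points X)) : Opn (EtOver X) where
  mem E := ∀ x : ↥(sch E), Points.ofPt E.obj.hom x ∈ O
  down g h x := by rw [← K646.MVSq.ofPt_mor g x]; exact h _

theorem opn_le {O O' : Set (Points X)} (h : O ⊆ O') : LE (etTop X) (opn O) (opn O') :=
  fun _ hE => ⟨⊤, (etTop X).top_mem _, fun _ e _ => (opn O').down e (fun x => h (hE x))⟩

theorem mem_opn_univ (E : EtOver X) : (opn (Set.univ : Set (Points X))).mem E := fun _ => Set.mem_univ _

theorem ofPt_congr {T : Over S} {F : Sp S} {g g' : (yon S).obj T ⟶ F} (h : g = g') (y : ↥T.left) :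
    Points.ofPt g y = Points.ofPt g' y := by rw [h]

/-- The sieve of the objects over `E` which live in an open or in another class is covering when it is so pointwise. -/
theorem exists_sieve {E : EtOver X} (P : ∀ (E' : EtOver X), (E' ⟶ E) → Prop)
    (hP : ∀ (E' E'' : EtOver X) (g : E' ⟶ E) (g' : E'' ⟶ E'), P E' g → P E'' (g' ≫ g))
    (h : ∀ x : ↥(sch E), ∃ (E' : EtOver X) (g : E' ⟶ E), x ∈ Set.range (mor g) ∧ P E' g) :
    ∃ T ∈ etTop X E, ∀ ⦃E' : EtOver X⦄ (e : E' ⟶ E), T e → P E' e := by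
  refine ⟨⟨fun E' g => P E' g, fun {Y Z g} hg f => hP _ _ g f hg⟩, ?_, fun E' e he => he⟩
  choose Y g hx hY using h
  refine (etTop X).superset_covering ?_ (ofArrows_mem_etTop Y g (fun x => ⟨x, hx x⟩))
  rw [Sieve.generate_le_iff]
  rintro _ _ ⟨x⟩
  exact hY x

section

variable {W₁ W₂ : Sp S} {j₁ : W₁ ⟶ X} {j₂ : W₂ ⟶ X} {k : W₁ ⟶ W₂}
  (hj₂ : RepWith @IsOpenImmersion j₂) (hk : k ≫ j₂ = j₁)

/-- Objects in the open of `j₂` factor through `j₂`. -/
theorem exists_factor (hj₂ : RepWith @IsOpenImmersion j₂) {E : EtOver X}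
    (hE : (opn (Set.range (Points.map j₂))).mem E) :
    ∃ c : (yon S).obj E.obj.left ⟶ W₂, c ≫ j₂ = E.obj.hom := by
  refine (K610.Factor.factors_open_iff hj₂ E.obj.hom).2 ?_
  rw [← K598.OpenInd.range_ofPt]
  rintro _ ⟨x, rfl⟩
  exact hE x

theorem mem_of_factor {E : EtOver X} (c : (yon S).obj E.obj.left ⟶ W₂) (hc : c ≫ j₂ = E.obj.hom) :
    (opn (Set.range (Points.map j₂))).mem E := by
  intro x
  rw [← hc, K610.Base.ofPt_comp]
  exact ⟨_, rfl⟩

variable {V : EtOver X} {f : (yon S).obj V.obj.left ⟶ W₂} (hf : f ≫ j₂ = V.obj.hom) (h : IsElemDistSq k f)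

include hj₂ hk hf h

theorem cov {E : EtOver X} (hE : (opn (Set.range (Points.map j₂))).mem E) (x : ↥(sch E)) :
    ∃ (E' : EtOver X) (g : E' ⟶ E), x ∈ Set.range (mor g) ∧
      ((opn (Set.range (Points.map j₁))).mem E' ∨ Nonempty (E' ⟶ V)) := by
  obtain ⟨hj, hf', T, P', i, p₁, p₂, ⟨hi, hrange, hred⟩, sq, hiso⟩ := h
  obtain ⟨c, hc⟩ := exists_factor hj₂ hE
  by_cases ht : Points.ofPt c x ∈ Set.range (Points.map k)
  · -- the open part
    obtain ⟨R, d, fst, sq'⟩ := hj.1 c
    have hd : IsOpenImmersion d.left := hj.2 _ _ _ sq'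
    have : Etale d.left := inferInstance
    refine ⟨extObj E d.left, extHom E d.left, ?_, Or.inl ?_⟩
    · obtain ⟨z, hz⟩ := ht
      obtain ⟨y, hy1, hy2⟩ := K610.Base.exists_of_isPullback_yon sq' z x hz
      exact ⟨y, hy2⟩
    · intro y
      have h1 : Points.ofPt (extObj E d.left).obj.hom y = Points.ofPt E.obj.hom (mor (extHom E d.left) y) :=
        (K646.MVSq.ofPt_mor _ _).symm
      have h2 : Points.ofPt E.obj.hom (d.left y) = Points.ofPt ((yon S).map d ≫ c ≫ j₂) y := by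
        rw [K610.Base.ofPt_map_comp, hc]
      have h3 : (yon S).map d ≫ c ≫ j₂ = fst ≫ j₁ := by rw [← sq'.w_assoc, hk]
      have h4 := ofPt_congr h3 y
      exact ⟨_, ((h1.trans h2).trans (h4.trans (K610.Base.ofPt_comp _ _ _))).symm⟩
  · have ht' : Points.ofPt c x ∈ Set.range (Points.map i) := by rw [hrange]; exact ht
    obtain ⟨z, hz⟩ := ht'
    have h3 : Points.map f (Points.map p₂ (Points.map (inv p₁) z)) = Points.ofPt c x := by
      rw [← Points.map_comp, ← Points.map_comp, ← sq.w, IsIso.inv_hom_id_assoc, hz]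
    obtain ⟨y, hy⟩ := (Points.schemeEquiv V.obj.left).surjective (Points.map p₂ (Points.map (inv p₁) z))
    obtain ⟨p, -, hp⟩ := K646.MVSq.exists_pt (E := V) (W := E) y x (by
      rw [← hf, ← hc, K610.Base.ofPt_comp, K610.Base.ofPt_comp, ← h3, ← hy, Points.ofPt_eq_map_ofScheme]
      rfl)
    exact ⟨_, prod.snd, ⟨p, hp⟩, Or.inr ⟨prod.fst⟩⟩

theorem agree {E : EtOver X} (a b : E ⟶ V) (x : ↥(sch E)) :
    ∃ (E' : EtOver X) (g : E' ⟶ E), x ∈ Set.range (mor g) ∧
      ((opn (Set.range (Points.map j₁))).mem E' ∨ g ≫ a = g ≫ b) := by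
  have h0 := h
  have := K598.RepKit.mono_of_repWith_isOpenImmersion hj₂
  obtain ⟨hj, hf', T, P', i, p₁, p₂, ⟨hi, hrange, hred⟩, sq, hiso⟩ := h
  let u : (yon S).obj E.obj.left ⟶ (yon S).obj V.obj.left := (yon S).map a.hom.left
  let v : (yon S).obj E.obj.left ⟶ (yon S).obj V.obj.left := (yon S).map b.hom.left
  have hu0 : (u ≫ f) ≫ j₂ = E.obj.hom := by
    rw [Category.assoc, hf]
    exact EtOver.w a
  have hv0 : (v ≫ f) ≫ j₂ = E.obj.hom := by
    rw [Category.assoc, hf]
    exact EtOver.w b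
  have huv : u ≫ f = v ≫ f := by
    rw [← cancel_mono j₂, hu0, hv0]
  by_cases ht : Points.ofPt (u ≫ f) x ∈ Set.range (Points.map k)
  · obtain ⟨R, d, fst, sq'⟩ := hj.1 (u ≫ f)
    have hd : IsOpenImmersion d.left := hj.2 _ _ _ sq'
    have : Etale d.left := inferInstance
    refine ⟨extObj E d.left, extHom E d.left, ?_, Or.inl ?_⟩
    · obtain ⟨z, hz⟩ := ht
      obtain ⟨y, hy1, hy2⟩ := K610.Base.exists_of_isPullback_yon sq' z x hz
      exact ⟨y, hy2⟩
    · intro y
      have h1 : Points.ofPt (extObj E d.left).obj.hom y = Points.ofPt E.obj.hom (mor (extHom E d.left) y) :=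
        (K646.MVSq.ofPt_mor _ _).symm
      have h2 : Points.ofPt E.obj.hom (d.left y) = Points.ofPt ((yon S).map d ≫ (u ≫ f) ≫ j₂) y := by
        rw [K610.Base.ofPt_map_comp, hu0]
      have h3 : (yon S).map d ≫ (u ≫ f) ≫ j₂ = fst ≫ j₁ := by rw [← sq'.w_assoc, hk]
      have h4 := ofPt_congr h3 y
      exact ⟨_, ((h1.trans h2).trans (h4.trans (K610.Base.ofPt_comp _ _ _))).symm⟩
  · have ht' : Points.ofPt (u ≫ f) x ∈ Set.range (Points.map i) := by rw [hrange]; exact ht
    have hVsp : IsAlgSpace ((yon S).obj V.obj.left) := IsAlgSpace.yon_obj _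
    obtain ⟨E₁, e, -, -, he⟩ := K640.Equalizer.exists_isEq hVsp.diag u v
    have h₂ : Etale e.left := K640.Equalizer.etale_of_isEq hVsp hf' huv he
    obtain ⟨τ, hτ⟩ := K640.ElemDist.factor_of_mem_range hi x (u ≫ f) ht'
    have h3 : (yon S).map (K640.ElemDist.resMap x) ≫ u = (yon S).map (K640.ElemDist.resMap x) ≫ v := by
      have hu : τ ≫ i = ((yon S).map (K640.ElemDist.resMap x) ≫ u) ≫ f := by
        rw [Category.assoc, hτ]
      have hv : τ ≫ i = ((yon S).map (K640.ElemDist.resMap x) ≫ v) ≫ f := by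
        rw [Category.assoc, hτ, huv]
      have h4 : sq.lift _ _ hu = sq.lift _ _ hv := by
        rw [← cancel_mono p₁, sq.lift_fst, sq.lift_fst]
      rw [← sq.lift_snd _ _ hu, h4, sq.lift_snd]
    obtain ⟨l, hl⟩ := he.lift _ _ h3
    have hx : e.left (l.left (IsLocalRing.closedPoint _)) = x := by
      have : (l ≫ e).left (IsLocalRing.closedPoint _) = x := by rw [hl, K640.ElemDist.resMap_apply]
      exact this
    refine ⟨extObj E e.left, extHom E e.left, ⟨l.left (IsLocalRing.closedPoint _), hx⟩, Or.inr ?_⟩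
    apply mor_ext
    have h5 := (yon S).map_injective ((((yon S).map_comp _ _).trans he.w).trans ((yon S).map_comp _ _).symm)
    exact congrArg (fun k => k.left) h5

/-- An elementary distinguished square gives an elementary square of the small etale site. -/
theorem elem : Elem (etTop X) V (opn (Set.range (Points.map j₁))) (opn (Set.range (Points.map j₂))) where
  le := opn_le (by
    rw [← hk]
    exact K610.Factor.range_comp_subset _ _)
  memV := mem_of_factor f hf
  cov E hE := exists_sieve (fun E' _ => (opn (Set.range (Points.map j₁))).mem E' ∨ Nonempty (E' ⟶ V))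
    (fun E' E'' g g' h' => h'.imp (fun h1 => (opn _).down g' h1) (fun ⟨a⟩ => ⟨g' ≫ a⟩))
    (fun x => cov hj₂ hk hf h hE x)
  uniq E a b := exists_sieve (fun E' e => (opn (Set.range (Points.map j₁))).mem E' ∨ e ≫ a = e ≫ b)
    (fun E' E'' g g' h' => h'.imp (fun h1 => (opn _).down g' h1)
      (fun h1 => by rw [Category.assoc, Category.assoc, h1]))
    (fun x => agree hj₂ hk hf h a b x)

end

/-- The square attached to an affine `V ⟶ W₂`. -/
theorem exists_elem {X W₁ W₂ V : Space S} {j₁ : W₁ ⟶ X} {j₂ : W₂ ⟶ X} {k : W₁ ⟶ W₂} {f : V ⟶ W₂}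
    (hj₂ : RepWith @IsOpenImmersion j₂.hom) (hk : k ≫ j₂ = j₁) (h : IsElemDistSq k.hom f.hom)
    (T : Over S) (e : (yon S).obj T ≅ V.obj) :
    ∃ V' : EtOver X.obj, V'.obj.left = T ∧
      Elem (etTop X.obj) V' (opn (Set.range (Points.map j₁.hom))) (opn (Set.range (Points.map j₂.hom))) := by
  have he : RepWith @Etale e.hom := K598.RepKit.repWith_of_isIso e.hom
  have h1 : RepWith @Etale (e.hom ≫ f.hom) := h.2.1 e.hom he
  have h2 : RepWith @Etale j₂.hom := K598.RepKit.repWith_mono (fun _ _ g (hg : IsOpenImmersion g) => (inferInstance : Etale g)) hj₂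
  have h3 : RepWith @Etale ((e.hom ≫ f.hom) ≫ j₂.hom) :=
    (repWith_isMultiplicative (S := S) @Etale).comp_mem _ _ h1 h2
  refine ⟨EtOver.mk ((e.hom ≫ f.hom) ≫ j₂.hom) h3, rfl, ?_⟩
  obtain ⟨hj, hf', T', P', i, p₁, p₂, hi, sq, hiso⟩ := h
  refine elem (W₁ := W₁.obj) (W₂ := W₂.obj) (k := k.hom) hj₂ (congrArg (fun t => t.hom) hk)
    (V := EtOver.mk ((e.hom ≫ f.hom) ≫ j₂.hom) h3) (f := e.hom ≫ f.hom) rfl
    ⟨hj, fun U φ hφ => ?_, T', P', i, p₁, p₂ ≫ e.inv, hi, ?_, hiso⟩
  · rw [← Category.assoc]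
    exact hf' _ ((repWith_isMultiplicative (S := S) @Etale).comp_mem _ _ hφ he)
  · refine IsPullback.of_iso sq (Iso.refl _) (Iso.refl _) e.symm (Iso.refl _) ?_ ?_ ?_ ?_
    · simp
    · simp
    · simp
    · simp

end K290.ElemSq
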