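import Groth.Agent.AlgSp.K290.QCW
import Groth.Agent.DRing.K228.Compact
import Groth.Agent.CohtopA.ExactDer

/-!
# Compact objects among the complexes quasi-coherent on an open
-/

set_option autoImplicit false
set_option linter.unusedSectionVars false

universe w v u

open CategoryTheory Category Limits Pretriangulated Triangulated Opposite

namespace K290.QCW

open K645.Ex K645.Lam K645.Shriek K645.Square K290.DIdem AlgebraicGeometry AlgSp K646.EtSite K645.TE K645.Int
  K645.IsO K290.Compact K290.Thick K290.ElemSq Groth.Agent.PerfA.CompactRel Groth.Agent.CohtopA.Compact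

attribute [local instance] HasDerivedCategory.standard

variable {S : Scheme.{u}} {X : Sp S}

instance preserves_TD (E : EtOver X) [IsAffine E.obj.left.left] (ι : Type (u + 1)) :
    PreservesColimitsOfShape (Discrete ι) (TD E) := by
  have := K646.Inst.isGrothendieckAbelianOn E
  have : PreservesColimitsOfShape (Discrete ι) (tE E) :=
    (adjE E).leftAdjoint_preservesColimits.preservesColimitsOfShape
  exact Groth.Agent.CohtopA.ExactDer.preservesCoproducts_mapDerivedCategory (tE E) ι

instance preserves_rD (E : EtOver X) (ι : Type (u + 1)) :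
    PreservesColimitsOfShape (Discrete ι) (resDEt E) := by
  have := K646.Inst.isGrothendieckAbelian X
  have := K646.Inst.isGrothendieckAbelianOn E
  exact Groth.Agent.CohtopA.ExactDer.preservesCoproducts_mapDerivedCategory (resModEt E) ι

/-- The quasi-coherent complexes over the affine object `E`. -/
abbrev dqcOn (E : EtOver X) : ObjectProperty (DCoh.DMod (OEtOn E)) := DCoh.IsQCohDMod (OEtOn E)

theorem isCompact_TD (E : EtOver X) [IsAffine E.obj.left.left] (M : Dual.D (B E))
    (hM : PerfAux.IsCompactObjRel.{u + 1} (⊤ : ObjectProperty (Dual.D (B E))) M) :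
    PerfAux.IsCompactObjRel.{u + 1} (dqcOn E) ((TD E).obj M) := by
  rw [isCompactObjRel_iff]
  intro ι L _ hL f
  choose N e using fun i => exists_TD_iso E (L i) (hL i)
  let c : Cofan L := Cofan.mk ((TD E).obj (∐ N)) (fun i => (e i).some.inv ≫ (TD E).map (Sigma.ι N i))
  have hc0 : IsColimit (Cofan.mk ((TD E).obj (∐ N)) (fun i => (TD E).map (Sigma.ι N i)) :
      Cofan fun i => (TD E).obj (N i)) := isColimitOfHasCoproductOfPreservesColimit (TD E) N
  have hc : IsColimit c := Cofan.IsColimit.mk _
    (fun s => Cofan.IsColimit.desc hc0 (fun i => (e i).some.hom ≫ s.inj i))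
    (fun s i => by
      have h1 := Cofan.IsColimit.fac hc0 (fun i => (e i).some.hom ≫ s.inj i) i
      change ((e i).some.inv ≫ (TD E).map (Sigma.ι N i)) ≫ _ = _
      rw [assoc]
      refine (congrArg (fun z => (e i).some.inv ≫ z) h1).trans ?_
      rw [Iso.inv_hom_id_assoc])
    (fun s m hm => by
      refine Cofan.IsColimit.hom_ext hc0 _ _ fun i => ?_
      rw [Cofan.IsColimit.fac]
      have h1 : ((e i).some.inv ≫ (TD E).map (Sigma.ι N i)) ≫ m = s.inj i := hm i
      change (TD E).map (Sigma.ι N i) ≫ m = _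
      rw [← h1, assoc, Iso.hom_inv_id_assoc])
  refine IsFiniteSum.of_iso hc (coproductIsCoproduct L) (fun f => ?_) f
  obtain ⟨g, rfl⟩ := (TD E).map_surjective (show (TD E).obj M ⟶ (TD E).obj (∐ N) from f)
  obtain ⟨s, k, hk⟩ := (isCompactObjRel_iff _ _).1 hM ι N (fun _ => trivial) g
  refine ⟨s, fun i => (TD E).map (k i) ≫ (e i).some.hom, ?_⟩
  rw [hk, Functor.map_sum]
  refine Finset.sum_congr rfl fun i _ => ?_
  rw [Functor.map_comp]
  change _ = ((TD E).map (k i) ≫ (e i).some.hom) ≫ (e i).some.inv ≫ (TD E).map (Sigma.ι N i)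
  rw [assoc, Iso.hom_inv_id_assoc]
  rfl

theorem isCompact_sD (W : Opn (EtOver X)) (E : EtOver X) (hE : W.mem E) [hE' : IsAffine E.obj.left.left]
    {N : DCoh.DMod (OEtOn E)} (hN : PerfAux.IsCompactObjRel.{u + 1} (dqcOn E) N) :
    PerfAux.IsCompactObjRel.{u + 1} (QC W) ((sD (OEtRing X) E).obj N) :=
  isCompactObjRel_of_adj (adjSR (OEtRing X) E) (fun _ hF => hF.2 E hE hE')
    (fun ι _ _ _ => (preserves_rD E ι).preservesColimit) hN

/-- `O_E` as the complex attached to the ring. -/
theorem exists_unit_iso (E : EtOver X) [hE' : IsAffine E.obj.left.left] :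
    Nonempty ((DerivedCategory.singleFunctor _ 0).obj (SheafOfModules.unit ((OEtRing X).over E)) ≅
      (TD E).obj (Dual.inD (B E) (B E))) := by
  obtain ⟨e⟩ := (cor_tE E).iso (cor_unit (R := (OEtRing X).over E) Over.mkIdTerminal)
  exact ⟨(DerivedCategory.singleFunctor _ 0).mapIso e.symm ≪≫
        (((tE E).mapDerivedCategorySingleFunctor 0).app (ModuleCat.of (B E) (B E))).symm⟩

/-- `j_! O_E` in terms of extension by zero. -/
theorem exists_cor_iso (E : EtOver X) (A : ModEt X) (hA : Cor E A) :
    Nonempty ((sD (OEtRing X) E).obj ((DerivedCategory.singleFunctor _ 0).obj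
      (SheafOfModules.unit ((OEtRing X).over E))) ≅ (DerivedCategory.singleFunctor _ 0).obj A) := by
  obtain ⟨e⟩ := hA.iso (cor_shriek (Over.mk (𝟙 E)) (cor_unit (R := (OEtRing X).over E) Over.mkIdTerminal))
  exact ⟨sDSingle _ 0 ≪≫ (DerivedCategory.singleFunctor _ 0).mapIso e.symm⟩

theorem isCompact_corW (W : Opn (EtOver X)) (E : EtOver X) (hE : W.mem E) (hE' : IsAffine (sch E)) (A : ModEt X)
    (hA : Cor E A) : PerfAux.IsCompactObjRel.{u + 1} (QC W) ((DerivedCategory.singleFunctor _ 0).obj A) := by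
  have : IsAffine E.obj.left.left := hE'
  obtain ⟨e⟩ := exists_cor_iso E A hA
  obtain ⟨e'⟩ := exists_unit_iso E
  refine isCompactObjRel_of_iso ((sD (OEtRing X) E).mapIso e'.symm ≪≫ e) (isCompact_sD W E hE (isCompact_TD E _ ?_))
  exact K228.Compact.isCompactObjRel_of_isCompactW Groth.Agent.LoccohB.LocGen.isCompactW_inD

/-- Extension by zero from an open subset of the base of an object of a slice. -/
theorem lD_sD_iso (U : Opn (EtOver X)) (E : EtOver X) (N : DR ((OEtRing X).over E)) :
    Nonempty ((lD U (OEtRing X)).obj ((sD (OEtRing X) E).obj N) ≅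
      (sD (OEtRing X) E).obj ((lD (ovr U E) ((OEtRing X).over E)).obj N)) := by
  have h1 := isIso_lD_map_sD_map_iD U N
  have h2 := isIso_iD_sD U (isIso_iD_lD_self (U := ovr U E) N)
  exact ⟨(asIso ((lD U (OEtRing X)).map ((sD (OEtRing X) E).map ((iD (ovr U E) ((OEtRing X).over E)).app N)))).symm ≪≫
    asIso ((iD U (OEtRing X)).app _)⟩

end K290.QCW

namespace K290.QCW

open K645.Ex K645.Lam K645.Shriek K645.Square K290.DIdem AlgebraicGeometry AlgSp K646.EtSite K645.TE K645.Int
  K645.IsO K290.Compact K290.Thick K290.ElemSq Groth.Agent.PerfA.CompactRel Groth.Agent.CohtopA.Compact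

attribute [local instance] HasDerivedCategory.standard

variable {S : Scheme.{u}} [QuasiSeparatedSpace ↥S] (X : AlgSp.Space S) (hXc : AlgSp.IsQuasiCompactSp X.obj)
  (hXs : AlgSp.IsQuasiSeparatedSp X.obj) (O : Set (Points X.obj)) (hO : IsOpen O) (hOc : IsCompact O)

include hXs hO hOc in
theorem prop_lD_cor (P : ObjectProperty (DModEt X.obj)) [P.IsTriangulated]
    [P.IsClosedUnderIsomorphisms]
    (hP : ∀ E : EtOver X.obj, (opn O).mem E → IsAffine (sch E) → ∀ A : ModEt X.obj, Cor E A →
      P ((DerivedCategory.singleFunctor _ 0).obj A)) (E : EtOver X.obj) (hE : IsAffine (sch E)) (A : ModEt X.obj)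
    (hA : Cor E A) : P ((lD (opn O) (OEtRing X.obj)).obj ((DerivedCategory.singleFunctor _ 0).obj A)) := by
  obtain ⟨e⟩ := exists_cor_iso E A hA
  obtain ⟨e'⟩ := lD_sD_iso (opn O) E ((DerivedCategory.singleFunctor _ 0).obj
      (SheafOfModules.unit ((OEtRing X.obj).over E)))
  refine P.prop_of_iso (e'.symm ≪≫ (lD (opn O) (OEtRing X.obj)).mapIso e) ?_
  rw [ovr_opn]
  have : CompactSpace ↥E.obj.left.left := inferInstanceAs (CompactSpace ↥(sch E))
  obtain ⟨l, hl⟩ := exists_OL (Y := sch E) _ (hO.preimage (Points.continuous_ofPt E.obj.hom))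
    (K620.Constr.isCompact_preimage_ofPt X.2 hXs E.obj.hom hO hOc)
  rw [hl]
  refine zar_ind E (P.inverseImage (sD (OEtRing X.obj) E)) _ _ l rfl fun g hg => ?_
  rw [← gen_oV]
  refine prop_gen_unit (oV_hom_ext _) (P.inverseImage (sD (OEtRing X.obj) E)) fun A' hA' => ?_
  refine P.prop_of_iso (sDSingle A' 0).symm (hP _ ?_ ?_ _ (cor_shriek _ hA'))
  · intro x
    have h1 := K646.MVSq.ofPt_mor (opnι E ((sch E).basicOpen g)) x
    have h2 : mor (opnι E ((sch E).basicOpen g)) x ∈ (OL l : Set ↥(sch E)) := by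
      apply hg
      have h3 : mor (opnι E ((sch E).basicOpen g)) x ∈ Set.range (mor (opnι E ((sch E).basicOpen g))) := ⟨x, rfl⟩
      rw [range_opnι] at h3
      exact h3
    rw [← hl] at h2
    change Points.ofPt _ x ∈ O
    have h3 : Points.ofPt E.obj.hom (mor (opnι E ((sch E).basicOpen g)) x) ∈ O := h2
    rw [h1] at h3
    exact h3
  · exact (isAffineOpen_top (sch E)).basicOpen g

include hXc hXs hO hOc in
/-- The thick principle over a quasi-compact open. -/
theorem thick_W (P : ObjectProperty (DModEt X.obj)) [P.IsTriangulated]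
    [P.IsClosedUnderIsomorphisms] [P.IsStableUnderRetracts]
    (hP : ∀ E : EtOver X.obj, (opn O).mem E → IsAffine (sch E) → ∀ A : ModEt X.obj, Cor E A →
      P ((DerivedCategory.singleFunctor _ 0).obj A)) (K : DModEt X.obj) (hK : IsPerfectEtD K) :
    P ((lD (opn O) (OEtRing X.obj)).obj K) := by
  have hr : (P.inverseImage (lD (opn O) (OEtRing X.obj))).IsStableUnderRetracts :=
    ⟨fun r h => P.prop_of_retract (r.map (lD (opn O) (OEtRing X.obj))) h⟩
  exact K290.Thick.prop_of_isPerfect X hXc hXs (P.inverseImage (lD (opn O) (OEtRing X.obj)))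
    (fun E hE A hA => prop_lD_cor X hXs O hO hOc P hP E hE A hA) K hK

/-- The objects which are compact with respect to the complexes quasi-coherent on `W`. -/
def compP (W : Opn (EtOver X.obj)) : ObjectProperty (DModEt X.obj) := fun K =>
  PerfAux.IsCompactObjRel.{u + 1} (QC W) K

instance (W : Opn (EtOver X.obj)) : (compP X W).IsTriangulated :=
  isTriangulated_isCompactObjRel (fun n L hL => (QC W).le_shift n L hL)

instance (W : Opn (EtOver X.obj)) : (compP X W).IsClosedUnderIsomorphisms :=
  ⟨fun e h => isCompactObjRel_of_iso e h⟩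

instance (W : Opn (EtOver X.obj)) : (compP X W).IsStableUnderRetracts :=
  ⟨fun r h => isCompactObjRel_of_retract r h⟩

include hXc hXs hO hOc in
/-- The restriction of a perfect object to a quasi-compact open is compact. -/
theorem isCompact_lD (K : DModEt X.obj) (hK : IsPerfectEtD K) :
    PerfAux.IsCompactObjRel.{u + 1} (QC (opn O)) ((lD (opn O) (OEtRing X.obj)).obj K) :=
  thick_W X hXc hXs O hO hOc (compP X (opn O)) (fun E hE hE' A hA => isCompact_corW (opn O) E hE hE' A hA) K hK

theorem QC_lD_of_isPerfect (K : DModEt X.obj) (hK : IsPerfectEtD K) (W : Opn (EtOver X.obj)) :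
    QC W ((lD W (OEtRing X.obj)).obj K) := by
  have h1 : QC (opn (Set.univ : Set (Points X.obj))) K := by
    refine ⟨isIso_iD_top (fun E => ⟨⊤, GrothendieckTopology.top_mem _ _, fun E' e _ => mem_opn_univ E'⟩) K,
      fun E _ _ => qcAt_of_isQCoh (isQCoh_of_isPerfect hK) E⟩
  exact QC_lD (fun E _ => mem_opn_univ E) h1

include hXc hXs hO hOc in
/-- If `G|_O` generates, then a thick subcategory containing `G|_O` contains the compact objects. -/
theorem prop_of_isCompactW (G : DModEt X.obj) (hG : IsPerfectEtD G)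
    (hgen : ∀ L : DModEt X.obj, QC (opn O) L →
      (∀ (n : ℤ) (φ : ((lD (opn O) (OEtRing X.obj)).obj G)⟦n⟧ ⟶ L), φ = 0) → IsZero L)
    (P : ObjectProperty (DModEt X.obj)) [P.IsTriangulated] [P.IsStableUnderRetracts]
    (hP : P ((lD (opn O) (OEtRing X.obj)).obj G))
    (K : DModEt X.obj) (hK : QC (opn O) K) (hK' : PerfAux.IsCompactObjRel.{u + 1} (QC (opn O)) K) :
    P K := by
  have h1 : HasCoproducts.{u + 1} (DModEt X.obj) := fun J => K646.DInst.hasCoproductsOfShape X.obj J
  refine Groth.Agent.PerfA.Neeman.prop_of_isCompactObjRel (Q := QC (opn O)) (fun _ K hK => QC_coprod K hK)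
    (J := PUnit) (fun _ => (lD (opn O) (OEtRing X.obj)).obj G)
    (fun _ => QC_lD_of_isPerfect X G hG (opn O)) (fun _ m K _ => inferInstance)
    (fun K hK h => hgen K hK (h PUnit.unit))
    (fun _ => isCompact_lD X hXc hXs O hO hOc G hG) P (fun _ => hP) K hK hK'

end K290.QCW
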