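import Groth.Agent.AlgSp.K645.Mul
import Groth.Agent.AlgSp.K290.Thick
import Groth.Agent.Cohder.BddShriek
import Groth.Agent.Cohder.HomVanish

/-!
# Torsion modules and modules vanishing on an open subset
-/

set_option autoImplicit false

universe u

open CategoryTheory CategoryTheory.Limits AlgebraicGeometry Opposite

attribute [local instance] HasDerivedCategory.standard

namespace K290.Tors

open K645.Ex K645.Lam K645.Shriek K645.Square K645.IsO AlgSp K646.EtSite K290.DIdem K645.Zar K645.TE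
  K645.AwayL K290.Thick Groth.Agent.Etbase.FFExact K645.Mul K644.Alg

theorem torsion_iff_of_isBC {A B M M' : Type*} [CommRing A] [CommRing B] {φ : A →+* B} [AddCommGroup M]
    [AddCommGroup M'] [Module A M] [Module B M'] {ψ : M →+ M'} (h : IsBC φ ψ) (r : A)
    (hφ : @IsLocalization.Away _ _ r B _ φ.toAlgebra) : (∀ x : M, ∃ k : ℕ, r ^ k • x = 0) ↔ ∀ y : M', y = 0 := by
  obtain ⟨h1, h2⟩ := isLocalizedModule_of_isBC h r hφ
  have hU : IsUnit (φ r) := by
    let _ := φ.toAlgebra
    exact IsLocalization.Away.algebraMap_isUnit (S := B) r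
  constructor
  · intro H y
    obtain ⟨k, x, hx⟩ := h2 y
    obtain ⟨j, hj⟩ := H x
    have h3 := h.1 (r ^ j) x
    rw [hj, map_zero, ← hx, map_pow, smul_smul, ← pow_add] at h3
    exact ((hU.pow (j + k)).smul_eq_zero).1 h3.symm
  · intro H x
    exact h1 x (H _)

variable {S : Scheme.{u}} {X : AlgSp.Sp S} (V : AlgSp.EtOver X)

/-- The map from a basic open to the terminal object. -/
noncomputable abbrev gt (f : Γ(sch V, ⊤)) : xo V ((sch V).basicOpen f) ⟶ Over.mk (𝟙 V) :=
  Over.homMk (opnι V ((sch V).basicOpen f)) (Category.comp_id _)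

section qc

variable [hV : IsAffine V.obj.left.left] {V}

theorem away_gt (f : Γ(sch V, ⊤)) :
    @IsLocalization.Away _ _ f Γ((sch V).basicOpen f, ⊤) _ ((sch V).basicOpen f).ι.appTop.hom.toAlgebra := by
  have : IsAffine (sch V) := hV
  have h0 : IsOpenImmersion ((sch V).basicOpen f).ι := inferInstance
  refine away_of_range ((sch V).basicOpen f).ι f ?_
  exact ((sch V).basicOpen f).range_ι

/-- Torsion elements over `V`. -/
theorem torsion_iff {M : ModEtOn V} (hM : K644.Psh.IsQC (K644.Slice.oT (EtOver.toScheme X) V) M.val)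
    (f : (OEtOn V).obj.obj (op (Over.mk (𝟙 V)))) :
    (∀ x : M.val.obj (op (Over.mk (𝟙 V))), ∃ k : ℕ, f ^ k • x = 0) ↔
      ∀ y : M.val.obj (op (xo V ((sch V).basicOpen (show B V from f).down))), y = 0 := by
  have hA : IsAffine (sch V) := hV
  let g : Γ(sch V, ⊤) := (show B V from f).down
  have hA' : IsAffine ((sch V).basicOpen g) := (isAffineOpen_top (sch V)).basicOpen g
  exact torsion_iff_of_isBC (hM (gt V g) hA' hA) g (away_gt g)

/-- Vanishing over a basic open. -/
theorem vanM_basicOpen_iff {M : ModEtOn V} (hM : K644.Psh.IsQC (K644.Slice.oT (EtOver.toScheme X) V) M.val)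
    (g : Γ(sch V, ⊤)) : VanM (oo V ((sch V).basicOpen g)) M ↔
      ∀ y : M.val.obj (op (xo V ((sch V).basicOpen g))), y = 0 := by
  have hA : IsAffine (sch V) := hV
  refine ⟨fun h y => h (mem_xo V _) y, fun h E hE m => ?_⟩
  obtain ⟨e⟩ := nonempty_hom_xo V hE
  choose E' g' hg' ha hx using fun x => exists_affine E.left ⊤ ((etTop X).top_mem _) x
  refine section_ext M ((Sieve.overEquiv E).symm (Sieve.generate (Presieve.ofArrows E' g')))
    ((etTop X).overEquiv_symm_mem_over E _ (ofArrows_mem_etTop E' g' fun x => ⟨x, hx x⟩)) _ _ fun E'' e' he' => ?_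
  have h1 := (Sieve.overEquiv_symm_iff _ e').1 he'
  obtain ⟨Z, a, b, ⟨x⟩, hab⟩ := h1
  have hA' : IsAffine ((sch V).basicOpen g) := (isAffineOpen_top (sch V)).basicOpen g
  -- the affine object over `E`
  let Z' : Over V := Over.mk (g' x ≫ E.hom)
  let b' : Z' ⟶ E := Over.homMk (g' x) rfl
  let a' : E'' ⟶ Z' := Over.homMk a (by
    change a ≫ g' x ≫ E.hom = E''.hom
    rw [← Category.assoc, hab]
    exact Over.w e')
  have h2 : e' = a' ≫ b' := Over.OverMorphism.ext hab.symm
  have hZ : IsAffine ((K644.Slice.oT (EtOver.toScheme X) V).obj Z') := ha x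
  have hbc := hM (b' ≫ e) hZ hA'
  have h3 : ∀ z : M.val.obj (op Z'), z = 0 := by
    intro z
    have h4 := IsBC.hom_ext hbc (LinearMap.id) 0 (fun y => by
      have : (show M.val.obj (op (xo V ((sch V).basicOpen g))) from y) = 0 := h y
      have h5 : y = 0 := this
      rw [h5, map_zero, map_zero, map_zero])
    exact LinearMap.congr_fun h4 z
  rw [h2]
  have h5 : res M (a' ≫ b') m = res M a' (res M b' m) := res_comp M _ _ _
  have h6 : res M (a' ≫ b') (0 : M.val.obj (op E)) = 0 := map_zero _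
  rw [h6, h5, h3 (res M b' m)]
  exact map_zero _

end qc

theorem vanM_sup_iff (A A' : (sch V).Opens) (M : ModEtOn V) :
    VanM (oo V (A ⊔ A')) M ↔ VanM (oo V A) M ∧ VanM (oo V A') M := by
  constructor
  · intro h
    exact ⟨fun E hE m => h (hE.trans (le_sup_left : A ≤ A ⊔ A')) m,
      fun E hE m => h (hE.trans (le_sup_right : A' ≤ A ⊔ A')) m⟩
  · rintro ⟨h, h'⟩ E hE m
    obtain ⟨T, hT, hT'⟩ := exists_cover_opV (A := A) (A' := A') E hE
    refine section_ext M T hT _ _ fun E' e he => ?_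
    rcases hT' e he with h1 | h1
    · rw [h h1 (res M e m)]
      exact (map_zero _).symm
    · rw [h' h1 (res M e m)]
      exact (map_zero _).symm

theorem vanM_OL_iff (M : ModEtOn V) (l : List Γ(sch V, ⊤)) :
    VanM (oo V (OL l)) M ↔ ∀ g ∈ l, VanM (oo V ((sch V).basicOpen g)) M := by
  induction l with
  | nil => exact ⟨fun _ g hg => by simp at hg, fun _ => vanM_bot V M⟩
  | cons f l ih =>
    have h1 : OL (f :: l) = (sch V).basicOpen f ⊔ OL l := rfl
    rw [h1, vanM_sup_iff, ih, List.forall_mem_cons]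

section ring

variable [hV : IsAffine V.obj.left.left]

/-- The union of the basic opens of a list of functions. -/
noncomputable abbrev OB (l : List (B V)) : (sch V).Opens := OL (l.map ULift.down)

/-- The module attached to `N` vanishes on the union of the basic opens of `l` iff `N` is torsion with respect to the
elements of `l`. -/
theorem isZero_lam_tE_iff (l : List (B V)) (N : ModuleCat.{u + 1} (B V)) :
    IsZero ((lam (oo V (OB V l)) (OEtOn V)).obj ((tE V).obj N)) ↔ ∀ f ∈ l, ∀ n : N, ∃ k : ℕ, f ^ k • n = 0 := by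
  have hb := K645.Tilde.bijective_eta (T := K644.Slice.oT (EtOver.toScheme X) V) (R := OEtOn V)
    Over.mkIdTerminal hV N
  rw [vanM_iff, vanM_OL_iff, List.forall_mem_map]
  refine forall_congr' fun f => forall_congr' fun _ => ?_
  rw [vanM_basicOpen_iff (isQC_tE V N)]
  refine (torsion_iff (isQC_tE V N) f).symm.trans ?_
  constructor
  · intro h n
    obtain ⟨k, hk⟩ := h (K645.Tilde.eta (R := OEtOn V) Over.mkIdTerminal N n)
    refine ⟨k, hb.1 ?_⟩
    rw [map_zero]
    exact (LinearMap.map_smul (K645.Tilde.eta (R := OEtOn V) Over.mkIdTerminal N) _ n).trans hk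
  · intro h x
    obtain ⟨n, rfl⟩ := hb.2 x
    obtain ⟨k, hk⟩ := h n
    refine ⟨k, ?_⟩
    exact (LinearMap.map_smul (K645.Tilde.eta (R := OEtOn V) Over.mkIdTerminal N) _ n).symm.trans
      ((congrArg (K645.Tilde.eta (R := OEtOn V) Over.mkIdTerminal N) hk).trans (map_zero _))

/-- Complexes with torsion cohomology. -/
def torsP (l : List (B V)) : ObjectProperty (Dual.D (B V)) := fun C =>
  ∀ f ∈ l, ∀ (n : ℤ) (x : (DerivedCategory.homologyFunctor (ModuleCat.{u + 1} (B V)) n).obj C),
    ∃ k : ℕ, f ^ k • x = 0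

/-- (T1) Torsion complexes are the complexes whose associated complex of modules vanishes on the open. -/
theorem tors_iff (l : List (B V)) (C : Dual.D (B V)) :
    torsP V l C ↔ IsZero ((lD (oo V (OB V l)) (OEtOn V)).obj ((TD V).obj C)) := by
  rw [isZero_lD_iff]
  have h1 : ∀ n : ℤ, IsZero ((lam (oo V (OB V l)) (OEtOn V)).obj
      ((DerivedCategory.homologyFunctor _ n).obj ((TD V).obj C))) ↔
      IsZero ((lam (oo V (OB V l)) (OEtOn V)).obj ((tE V).obj
        ((DerivedCategory.homologyFunctor (ModuleCat.{u + 1} (B V)) n).obj C))) := fun n =>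
    ((lam (oo V (OB V l)) (OEtOn V)).mapIso
      ((Groth.Agent.PerfA.ExactD.mapHomology (tE V) n).app C)).isZero_iff
  have h2 : (∀ n : ℤ, IsZero ((lam (oo V (OB V l)) (OEtOn V)).obj
      ((DerivedCategory.homologyFunctor _ n).obj ((TD V).obj C)))) ↔ ∀ n : ℤ, ∀ f ∈ l,
      ∀ (x : (DerivedCategory.homologyFunctor (ModuleCat.{u + 1} (B V)) n).obj C), ∃ k : ℕ, f ^ k • x = 0 :=
    forall_congr' fun n => (h1 n).trans (isZero_lam_tE_iff V l _)
  rw [h2]
  exact ⟨fun h n f hf x => h f hf n x, fun h f hf n x => h n f hf x⟩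

/-- The Koszul complex. -/
noncomputable abbrev kos {A : Type (u + 1)} [CommRing A] (l : List A) : Dual.D A :=
  DerivedCategory.Q.obj (Koszul.koszul A l)

omit hV in
theorem torsP_kos (l : List (B V)) : torsP V l (kos l) := by
  intro f hf n
  have h := Groth.Agent.PerfB.KoszulOn.torsD_kosOn
    ((CochainComplex.singleFunctor (ModuleCat.{u + 1} (B V)) 0).obj (ModuleCat.of (B V) (B V))) l f hf n
  rw [Groth.Agent.PerfB.KoszulOn.kosOn_single_eq] at h
  exact h

omit hV in
/-- (T2) -/
theorem exists_kos (l : List (B V)) : ∃ K : Dual.D (B V), DRing.IsPerfect (B V) K ∧ torsP V l K ∧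
    ∀ C : Dual.D (B V), torsP V l C → (∀ (n : ℤ) (φ : K⟦n⟧ ⟶ C), φ = 0) → IsZero C := by
  refine ⟨kos l, Groth.Agent.Cohder.BddShriek.isPerfect_koszul l, torsP_kos V l, fun C hC h => ?_⟩
  rw [Groth.Agent.PerfA.ExactD.isZero_iff]
  intro n
  exact Groth.Agent.Cohder.BddKoszul.isZero_homology C l n (fun a ha i _ _ => hC a ha i)
    (fun i _ _ => (Groth.Agent.Cohder.HomVanish.homVan_iff _ _ i (-i) (by omega)).2 (h (-i)))

/-- `TorsIff` for a quasi-compact open subset. -/
theorem exists_torsIff (A : Set ↥(sch V)) (hA : IsOpen A) (hAc : IsCompact A) :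
    ∃ l : List (B V), A = (OB V l : Set ↥(sch V)) ∧ ∀ N : ModuleCat.{u + 1} (B V),
      IsZero ((lam (opV V A) ((OEtRing X).over V)).obj ((tE V).obj N)) ↔ ∀ f ∈ l, ∀ n : N, ∃ k : ℕ, f ^ k • n = 0 := by
  have : IsAffine (sch V) := hV
  obtain ⟨l, rfl⟩ := exists_OL (Y := sch V) A hA hAc
  have h : l = (l.map ULift.up : List (B V)).map ULift.down := by
    rw [List.map_map]
    exact (List.map_id l).symm
  refine ⟨l.map ULift.up, ?_, fun N => ?_⟩
  · rw [OB, ← h]
  · rw [← isZero_lam_tE_iff V (l.map ULift.up) N, OB, ← h]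

end ring

end K290.Tors
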