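import Groth.Agent.AlgSp.K290.ExtW
import Groth.Agent.AlgSp.K290.QCComp
import Groth.Agent.AlgSp.K290.Tors
import Groth.Agent.AlgSp.K645.PsiMain
import Groth.Agent.AlgSp.K294.GlueOn

/-!
# Direct images along an elementary square
-/

set_option autoImplicit false
set_option linter.unusedSectionVars false

universe w v u

open CategoryTheory Category Limits Pretriangulated Triangulated Opposite AlgebraicGeometry

namespace K290.ExtSp

open K645.Ex K645.Lam K645.Shriek K645.Square K290.DIdem K290.QCW K290.ExtW AlgSp K646.EtSite K645.TE K645.Int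
  K645.IsO K290.Thick K290.ElemSq K645.Zar K645.Psi K645.PsiMain K645.LocO K645.PsiIso K294.GlueOn

attribute [local instance] HasDerivedCategory.standard

section gen

variable {C : Type (u + 1)} [Category.{u} C] {J : GrothendieckTopology C} {R : Sheaf J RingCat.{u + 1}}
  {V : C} {U W : Opn C}
  [HasSheafify J AddCommGrpCat.{u + 1}] [J.WEqualsLocallyBijective AddCommGrpCat.{u + 1}]

theorem isIso_of_supp {Y₁ Y₂ : DR R} (c : Y₁ ⟶ Y₂) (h : IsIso ((lD U R).map c)) (h1 : IsIso ((iD U R).app Y₁))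
    (h2 : IsIso ((iD U R).app Y₂)) : IsIso c := by
  have h3 : c = inv ((iD U R).app Y₁) ≫ (lD U R).map c ≫ (iD U R).app Y₂ := by
    rw [lD_map_iD, IsIso.inv_hom_id_assoc]
  rw [h3]
  infer_instance

theorem isIso_rD_map {Y₁ Y₂ : DR R} (c : Y₁ ⟶ Y₂) (h : IsIso ((lD U R).map c)) (hV : U.mem V) :
    IsIso ((rD R V).map c) := by
  have h1 := isIso_rD_map_iD hV Y₁
  have h2 := isIso_rD_map_iD hV Y₂
  have h3 : (rD R V).map c = inv ((rD R V).map ((iD U R).app Y₁)) ≫ (rD R V).map ((lD U R).map c) ≫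
      (rD R V).map ((iD U R).app Y₂) := by
    rw [← Functor.map_comp, lD_map_iD, Functor.map_comp, IsIso.inv_hom_id_assoc]
  rw [h3]
  infer_instance

end gen

variable {S : Scheme.{u}} {X : AlgSp.Sp S}

/-- Quasi-coherence and elementary squares. -/
theorem qc_of_elem {V : EtOver X} {O₁ O₂ : Opn (EtOver X)} (H : Elem (etTop X) V O₁ O₂) {K : DModEt X}
    (h₁ : ∀ E : EtOver X, O₁.mem E → IsAffine (sch E) → qcAtP E K) (hV : qcAtP V K) (E : EtOver X)
    (hE : O₂.mem E) (hE' : IsAffine (sch E)) : qcAtP E K := by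
  obtain ⟨T, hT, h⟩ := H.cov E hE
  have hEa : IsAffine E.obj.left.left := hE'
  have : CompactSpace ↥(K646.EtSite.sch E) := inferInstanceAs (CompactSpace E.obj.left.left)
  obtain ⟨n, W, f, h1, h2, h3⟩ := K646.EtSite.exists_finite_affine E T hT
  have h2' : ∀ i, IsAffine (W i).obj.left.left := h2
  refine qcAt_of_cover f h3 fun i => ?_
  rcases h (f i) (h1 i) with h4 | ⟨⟨g⟩⟩
  · exact h₁ (W i) h4 (h2' i)
  · exact qcAt_of_hom g hV

/-- The quasi-coherent complexes over `V`. -/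
abbrev cohOn (V : EtOver X) : ObjectProperty (DCoh.DMod (OEtOn V)) :=
  Groth.Agent.PerfA.CohomIn.coh (K294.QcSerre.qcOn V)

theorem loc_TD (V : EtOver X) [IsAffine V.obj.left.left] (W : (sch V).Opens) {Y : DCoh.DMod (OEtOn V)}
    {M : Dual.D (B V)} (c : (lD (oo V W) (OEtOn V)).obj ((TD V).obj M) ⟶ Y) (hc' : IsIso c)
    (hc : ∀ N : Dual.D (B V), Function.Bijective
      (fun ψ : N ⟶ M => (lD (oo V W) (OEtOn V)).map ((TD V).map ψ) ≫ c)) :
    Loc (oo V W) (cohOn V) ((TD V).obj M) := by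
  intro A X' a hX' ha
  obtain ⟨N, ⟨e⟩⟩ := exists_TD_iso V X' hX'
  obtain ⟨θ, hθ⟩ := ha.exists_iso
  let i := iD (oo V W) (OEtOn V)
  have h1 : Function.Bijective (fun ψ : N ⟶ M => (lD (oo V W) (OEtOn V)).map ((TD V).map ψ)) := by
    constructor
    · intro ψ ψ' h
      exact (hc N).1 (congrArg (fun z => z ≫ c) h)
    · intro χ
      obtain ⟨ψ, hψ⟩ := (hc N).2 (χ ≫ c)
      exact ⟨ψ, (cancel_mono c).1 hψ⟩
  have h2 : Function.Bijective (fun χ : (lD (oo V W) (OEtOn V)).obj ((TD V).obj N) ⟶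
      (lD (oo V W) (OEtOn V)).obj ((TD V).obj M) => χ ≫ i.app ((TD V).obj M)) :=
    bijective_comp_of_supp (U := oo V W) _ (isIso_lD_map_iD_self (U := oo V W) _)
      (isIso_iD_lD_self (U := oo V W) _)
  have h3 : Function.Bijective (fun ψ : N ⟶ M => (lD (oo V W) (OEtOn V)).map ((TD V).map ψ) ≫
      i.app ((TD V).obj M)) := h2.comp h1
  have h4 : Function.Bijective (fun φ : (TD V).obj N ⟶ (TD V).obj M => i.app ((TD V).obj N) ≫ φ) := by
    refine (Function.Bijective.of_comp_iff _ (bijective_TD V N M)).1 ?_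
    have h5 : ((fun φ : (TD V).obj N ⟶ (TD V).obj M => i.app ((TD V).obj N) ≫ φ) ∘
        fun φ : N ⟶ M => (TD V).map φ) = (fun ψ : N ⟶ M => (lD (oo V W) (OEtOn V)).map ((TD V).map ψ) ≫
      i.app ((TD V).obj M)) := by
      funext ψ
      exact (lD_map_iD (oo V W) ((TD V).map ψ)).symm
    rw [h5]
    exact h3
  constructor
  · intro φ φ' h
    have h6 : a ≫ φ = a ≫ φ' := h
    rw [← hθ, assoc, assoc, cancel_epi] at h6
    have h7 : i.app ((TD V).obj N) ≫ e.hom ≫ φ = i.app ((TD V).obj N) ≫ e.hom ≫ φ' := by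
      have h8 : (lD (oo V W) (OEtOn V)).map e.hom ≫ i.app X' = i.app ((TD V).obj N) ≫ e.hom :=
        lD_map_iD (oo V W) e.hom
      rw [← assoc, ← assoc, ← h8, assoc, assoc, h6]
    exact (cancel_epi e.hom).1 (h4.1 h7)
  · intro χ
    have h8 : (lD (oo V W) (OEtOn V)).map e.inv ≫ i.app ((TD V).obj N) = i.app X' ≫ e.inv :=
      lD_map_iD (oo V W) e.inv
    obtain ⟨φ, hφ⟩ := h4.2 ((lD (oo V W) (OEtOn V)).map e.hom ≫ θ.inv ≫ χ)
    refine ⟨e.inv ≫ φ, ?_⟩
    change a ≫ e.inv ≫ φ = χ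
    have h9 : i.app ((TD V).obj N) ≫ φ = (lD (oo V W) (OEtOn V)).map e.hom ≫ θ.inv ≫ χ := hφ
    have h10 : i.app X' ≫ e.inv ≫ φ = θ.inv ≫ χ := by
      rw [← assoc, ← h8, assoc, h9, ← assoc, ← CategoryTheory.Functor.map_comp, e.inv_hom_id,
        CategoryTheory.Functor.map_id, id_comp]
    rw [← hθ, assoc, h10, θ.hom_inv_id_assoc]

/-- The direct image of `F` along `O₁ ⊆ O₂`. -/
theorem exists_ext {V : EtOver X} [hVa : IsAffine V.obj.left.left] {O₁ : Set (Points X)} {W : Opn (EtOver X)}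
    (H : Elem (etTop X) V (opn O₁) W) (hO : IsOpen O₁)
    (hOc : IsCompact (Points.ofPt V.obj.hom ⁻¹' O₁)) {F : DModEt X} (hF : QC (opn O₁) F) :
    ∃ (F' : DModEt X) (i : F ⟶ F'), QC W F' ∧ Res (opn O₁) i ∧
      ∀ ⦃A P : DModEt X⦄ (a : A ⟶ P), Res (opn O₁) a → QC W P →
        Function.Bijective (fun φ : P ⟶ F' => a ≫ φ) := by
  have hV' : IsAffine (sch V) := hVa
  obtain ⟨l, hl⟩ := exists_OL (Y := sch V) _ (hO.preimage (Points.continuous_ofPt V.obj.hom)) hOc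
  have hU : ovr (opn O₁) V = oo V (OL l) := by
    rw [ovr_opn, hl]
  have hY : GoodOn ((rD (OEtRing X) V).obj F) (OL l) := by
    refine goodOn_r fun E hE hEW => hF.2 E.left ?_ hE
    rw [← hU] at hEW
    exact hEW
  obtain ⟨M, c, hc⟩ := exists_psi (OL l) ((rD (OEtRing X) V).obj F)
  have h1 := isIso_lD_map hY hc
  have h2 : IsIso ((iD (oo V (OL l)) (OEtOn V)).app ((rD (OEtRing X) V).obj F)) := by
    rw [← hU]
    exact isIso_iD_rD (opn O₁) hF.1
  have hc' : IsIso c := isIso_of_supp c h1 (isIso_iD_lD_self _) h2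
  have hL := loc_TD V (OL l) c hc' hc
  have hp : ∃ c : (lD (oo V (OL l)) (OEtOn V)).obj ((TD V).obj M) ⟶ (rD (OEtRing X) V).obj F, IsIso c :=
    ⟨c, hc'⟩
  rw [← hU] at hp hL
  obtain ⟨c₂, hc₂⟩ := hp
  obtain ⟨F', i, h3, h4, ⟨e⟩⟩ := exists_glue H hF.1 (T := (TD V).obj M) c₂ hc₂
  refine ⟨F', i, ⟨h3, qc_of_elem H (fun E hE hE' => ?_) ?_⟩, ⟨hF.1, h4⟩, fun A P a ha hP => ?_⟩
  · have := isIso_rD_map i h4 hE
    exact (cohOn E).prop_of_iso (asIso ((rD (OEtRing X) E).map i)) (hF.2 E hE hE')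
  · exact (cohOn V).prop_of_iso e.symm (isQCoh_TD V M)
  · exact bijective_of_loc H (hL.of_iso e.symm) a ha hP.1 (hP.2 V H.memV hV')

end K290.ExtSp
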