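import Groth.Agent.AlgSp.K290.QCW
import Groth.Agent.Cohder.HomVanish

/-!
# Extension of complexes along an elementary square
-/

set_option autoImplicit false
set_option linter.unusedSectionVars false

universe w v u

open CategoryTheory Category Limits Pretriangulated Triangulated Opposite

namespace K290.ExtW

open K645.Ex K645.Lam K645.Shriek K645.Square K290.DIdem K290.QCW

attribute [local instance] HasDerivedCategory.standard

variable {C : Type (u + 1)} [Category.{u} C] {J : GrothendieckTopology C} {R : Sheaf J RingCat.{u + 1}}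
  {V : C} {U W : Opn C}
  [HasSheafify J AddCommGrpCat.{u + 1}] [J.WEqualsLocallyBijective AddCommGrpCat.{u + 1}]

/-- `a : A ⟶ X` identifies `A` with `j_! j^* X`. -/
structure Res (U : Opn C) {A X : DR R} (a : A ⟶ X) : Prop where
  sp : IsIso ((iD U R).app A)
  ism : IsIso ((lD U R).map a)

theorem res_iD (U : Opn C) (X : DR R) : Res U ((iD U R).app X) :=
  ⟨isIso_iD_lD_self X, isIso_lD_map_iD_self X⟩

theorem Res.exists_iso {A X : DR R} {a : A ⟶ X} (h : Res U a) : ∃ θ : A ≅ (lD U R).obj X, θ.hom ≫ (iD U R).app X = a := by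
  have := h.sp
  have := h.ism
  refine ⟨(asIso ((iD U R).app A)).symm ≪≫ asIso ((lD U R).map a), ?_⟩
  rw [Iso.trans_hom, Iso.symm_hom, asIso_inv, asIso_hom, assoc, lD_map_iD, IsIso.inv_hom_id_assoc]

theorem Res.of_iso {A X A' X' : DR R} {a : A ⟶ X} (h : Res U a) {a' : A' ⟶ X'} (e : A ≅ A') (e' : X ≅ X')
    (w : a ≫ e'.hom = e.hom ≫ a') : Res U a' := by
  refine ⟨isIso_iD_of_iso U e h.sp, ?_⟩
  have := h.ism
  have h1 : a' = e.inv ≫ a ≫ e'.hom := by rw [w, Iso.inv_hom_id_assoc]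
  rw [h1, Functor.map_comp, Functor.map_comp]
  infer_instance

theorem Res.shift {A X : DR R} {a : A ⟶ X} (h : Res U a) (n : ℤ) : Res U (a⟦n⟧') := by
  refine ⟨(sup U R).le_shift n _ h.sp, ?_⟩
  have := h.ism
  have h1 : (lD U R).map (a⟦n⟧') = ((lD U R).commShiftIso n).hom.app A ≫ ((lD U R).map a)⟦n⟧' ≫
      ((lD U R).commShiftIso n).inv.app X := by
    have h2 := ((lD U R).commShiftIso n).hom.naturality a
    change (lD U R).map (a⟦n⟧') ≫ _ = _ ≫ ((lD U R).map a)⟦n⟧' at h2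
    rw [← assoc, ← h2, assoc]
    have h3 := ((lD U R).commShiftIso n).hom_inv_id_app X
    exact (comp_id _).symm.trans (congrArg (fun z => (lD U R).map (a⟦n⟧') ≫ z) h3.symm)
  rw [h1]
  infer_instance

theorem Res.rD {A X : DR R} {a : A ⟶ X} (h : Res U a) (V : C) : Res (ovr U V) ((rD R V).map a) := by
  refine ⟨isIso_iD_rD U h.sp, ?_⟩
  obtain ⟨θ, rfl⟩ := h.exists_iso
  have := isIso_lD_map_rD_map_iD (V := V) U X
  rw [Functor.map_comp, Functor.map_comp]
  infer_instance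

/-- Maps to `T` extend uniquely from `j_! j^* X` to `X`, for `X` in a class of complexes. -/
def Loc (U : Opn C) (P : ObjectProperty (DR R)) (T : DR R) : Prop :=
  ∀ ⦃A X : DR R⦄ (a : A ⟶ X), P X → Res U a → Function.Bijective (fun φ : X ⟶ T => a ≫ φ)

theorem Loc.of_iso {P : ObjectProperty (DR R)} {T T' : DR R} (h : Loc U P T) (e : T ≅ T') : Loc U P T' := by
  intro A X a hX ha
  obtain ⟨h1, h2⟩ := h a hX ha
  constructor
  · intro φ φ' hφ
    have h3 : a ≫ φ ≫ e.inv = a ≫ φ' ≫ e.inv := by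
      rw [← assoc, ← assoc]
      exact congrArg (fun z => z ≫ e.inv) hφ
    exact (cancel_mono e.inv).1 (h1 h3)
  · intro ψ
    obtain ⟨φ, hφ⟩ := h2 (ψ ≫ e.inv)
    refine ⟨φ ≫ e.hom, ?_⟩
    change a ≫ φ ≫ e.hom = ψ
    have h3 : a ≫ φ = ψ ≫ e.inv := hφ
    rw [← assoc, h3, assoc, e.inv_hom_id, comp_id]

theorem Loc.shift {P : ObjectProperty (DR R)} [P.IsStableUnderShift ℤ] {T : DR R} (h : Loc U P T) (n : ℤ) :
    Loc U P (T⟦n⟧) := by
  intro A X a hX ha
  let adj := (shiftEquiv' (DR R) (-n) n (neg_add_cancel n)).toAdjunction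
  obtain ⟨h1, h2⟩ := h (a⟦-n⟧') (P.le_shift (-n) X hX) (ha.shift (-n))
  have key : ∀ f : X⟦-n⟧ ⟶ T, a ≫ adj.homEquiv X T f = adj.homEquiv A T (a⟦-n⟧' ≫ f) := fun f =>
    (adj.homEquiv_naturality_left a f).symm
  constructor
  · intro φ φ' hφ
    obtain ⟨f, rfl⟩ := (adj.homEquiv X T).surjective φ
    obtain ⟨f', rfl⟩ := (adj.homEquiv X T).surjective φ'
    have h3 : a ≫ adj.homEquiv X T f = a ≫ adj.homEquiv X T f' := hφ
    rw [key, key] at h3
    exact congrArg _ (h1 ((adj.homEquiv A T).injective h3))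
  · intro ψ
    obtain ⟨f, hf⟩ := h2 ((adj.homEquiv A T).symm ψ)
    refine ⟨adj.homEquiv X T f, ?_⟩
    change a ≫ adj.homEquiv X T f = ψ
    have h3 : a⟦-n⟧' ≫ f = (adj.homEquiv A T).symm ψ := hf
    rw [key]
    exact (congrArg (adj.homEquiv A T) h3).trans (Equiv.apply_symm_apply _ _)

/-- Vanishing of the maps out of the cone. -/
theorem Loc.eq_zero {P : ObjectProperty (DR R)} [P.IsStableUnderShift ℤ] {T : DR R} (h : Loc U P T)
    {A X D : DR R} {a : A ⟶ X} {b : X ⟶ D} {δ : D ⟶ A⟦(1 : ℤ)⟧} (hT : Triangle.mk a b δ ∈ distTriang _)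
    (hX : P X) (ha : Res U a) (φ : D ⟶ T) : φ = 0 := by
  have h1 : b ≫ φ = 0 := (h a hX ha).1 (by
    change a ≫ b ≫ φ = a ≫ 0
    rw [comp_zero, ← assoc]
    have : a ≫ b = 0 := comp_distTriang_mor_zero₁₂ _ hT
    rw [this, zero_comp])
  obtain ⟨χ, hχ⟩ := Triangle.yoneda_exact₃ _ hT φ h1
  obtain ⟨χ', hχ'⟩ := (h (a⟦(1 : ℤ)⟧') (P.le_shift 1 X hX) (ha.shift 1)).2 χ
  have h2 : a⟦(1 : ℤ)⟧' ≫ χ' = χ := hχ'
  have h3 : δ ≫ a⟦(1 : ℤ)⟧' = 0 := comp_distTriang_mor_zero₃₁ _ hT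
  have h4 : φ = δ ≫ χ := hχ
  rw [h4, ← h2, ← assoc, h3, zero_comp]

section Elem

variable (H : Elem J V U W)

include H

/-- The extension of `F` from `U` to `W` whose restriction to `V` is `T`. -/
theorem exists_glue {F : DR R} (hF : IsIso ((iD U R).app F)) {T : DR (R.over V)}
    (c : (lD (ovr U V) (R.over V)).obj T ⟶ (rD R V).obj F) (hc : IsIso c) : ∃ (F' : DR R) (i : F ⟶ F'), IsIso ((iD W R).app F') ∧ IsIso ((lD U R).map i) ∧
    Nonempty ((rD R V).obj F' ≅ T) := by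
  obtain ⟨Z, g, δ, hZ⟩ := distinguished_cocone_triangle ((iD (ovr U V) (R.over V)).app T)
  have hZ0 : IsZero ((lD (ovr U V) (R.over V)).obj Z) := by
    have := isIso_lD_map_iD_self (U := ovr U V) T
    exact (Triangle.isZero₃_iff_isIso₁ _ ((lD (ovr U V) (R.over V)).map_distinguished _ hZ)).2 this
  let e : (sD R V).obj Z ⟶ F⟦(1 : ℤ)⟧ := ((adjSR R V).homEquiv Z (F⟦(1 : ℤ)⟧)).symm
    (δ ≫ c⟦(1 : ℤ)⟧' ≫ ((rD R V).commShiftIso (1 : ℤ)).inv.app F)
  obtain ⟨F', i, p, hT'⟩ := distinguished_cocone_triangle₂ e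
  have h1 : IsZero ((lD U R).obj ((sD R V).obj Z)) := isZero_lD_sD U hZ0
  refine ⟨F', i, ?_, ?_, ?_⟩
  · exact (sup W R).ext_of_isTriangulatedClosed₂ _ hT' (isIso_iD_mono H.le hF) (isIso_iD_W H Z)
  · exact (Triangle.isZero₃_iff_isIso₁ _ ((lD U R).map_distinguished _ hT')).1 h1
  · have hu : IsIso ((adjSR R V).unit.app Z) := isIso_unit H hZ0
    have h2 := (rD R V).map_distinguished _ hT'
    let ec : (lD (ovr U V) (R.over V)).obj T ≅ (rD R V).obj F := asIso c
    let eu : Z ≅ (rD R V).obj ((sD R V).obj Z) := asIso ((adjSR R V).unit.app Z)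
    refine ⟨(Triangle.π₂.mapIso (isoTriangleOfIso₁₃ _ _ hZ h2 ec eu ?_)).symm⟩
    change δ ≫ c⟦(1 : ℤ)⟧' = (adjSR R V).unit.app Z ≫ (rD R V).map e ≫ ((rD R V).commShiftIso (1 : ℤ)).hom.app F
    have h3 : (adjSR R V).unit.app Z ≫ (rD R V).map e = δ ≫ c⟦(1 : ℤ)⟧' ≫
        ((rD R V).commShiftIso (1 : ℤ)).inv.app F :=
      ((adjSR R V).homEquiv_unit (f := e)).symm.trans (Equiv.apply_symm_apply _ _)
    rw [← assoc, h3, assoc, assoc]
    have h4 := ((rD R V).commShiftIso (1 : ℤ)).inv_hom_id_app F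
    exact ((congrArg (fun z => δ ≫ c⟦(1 : ℤ)⟧' ≫ z) h4).trans
      (congrArg (fun z => δ ≫ z) (comp_id _))).symm

/-- Maps to an object whose restriction to `V` is local extend from `j_! j^* P` to `P`. -/
theorem bijective_of_loc {Q : ObjectProperty (DR (R.over V))} [Q.IsStableUnderShift ℤ]
    {F' : DR R} (hL : Loc (ovr U V) Q ((rD R V).obj F')) {A P : DR R} (a : A ⟶ P) (ha : Res U a)
    (hP : IsIso ((iD W R).app P)) (hQ : Q ((rD R V).obj P)) :
    Function.Bijective (fun φ : P ⟶ F' => a ≫ φ) := by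
  obtain ⟨D, b, δ, hT⟩ := distinguished_cocone_triangle a
  have hD0 : IsZero ((lD U R).obj D) := by
    have := ha.ism
    exact (Triangle.isZero₃_iff_isIso₁ _ ((lD U R).map_distinguished _ hT)).2 this
  have hDW : IsIso ((iD W R).app D) :=
    (sup W R).ext_of_isTriangulatedClosed₃ _ hT (isIso_iD_mono H.le ha.sp) hP
  have hco : IsIso ((adjSR R V).counit.app D) := isIso_counit H hDW hD0
  have key : ∀ (n : ℤ) (φ : D ⟶ F'⟦n⟧), φ = 0 := by
    intro n φ
    have h1 : (adjSR R V).homEquiv _ _ ((adjSR R V).counit.app D ≫ φ) = 0 := by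
      refine Loc.eq_zero ((hL.shift n).of_iso (((rD R V).commShiftIso n).app F').symm)
        ((rD R V).map_distinguished _ hT) hQ (ha.rD V) _
    have h2 : (adjSR R V).counit.app D ≫ φ = 0 := by
      apply ((adjSR R V).homEquiv _ _).injective
      rw [h1, Adjunction.homEquiv_unit, Functor.map_zero, comp_zero]
    exact (cancel_epi ((adjSR R V).counit.app D)).1 (h2.trans comp_zero.symm)
  constructor
  · intro φ φ' hφ
    have h1 : a ≫ (φ - φ') = 0 := by
      rw [Preadditive.comp_sub, sub_eq_zero]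
      exact hφ
    obtain ⟨χ, hχ⟩ := Triangle.yoneda_exact₂ _ hT (φ - φ') h1
    have h2 : χ = 0 := by
      have h3 := key 0 (χ ≫ ((shiftFunctorZero (DR R) ℤ).inv.app F'))
      exact (cancel_mono ((shiftFunctorZero (DR R) ℤ).inv.app F')).1 (h3.trans zero_comp.symm)
    rw [h2, comp_zero] at hχ
    exact sub_eq_zero.1 hχ
  · intro ψ
    obtain ⟨φ, hφ⟩ := Triangle.yoneda_exact₂ _ (inv_rot_of_distTriang _ hT) ψ
      ((Groth.Agent.Cohder.HomVanish.homVan_iff D F' 1 (-1) (by omega)).1 (key 1) _)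
    exact ⟨φ, hφ.symm⟩

end Elem

end K290.ExtW
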