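import Groth.Agent.PerfA.CohomIn

/-!
# Objects with a hom-vanishing interval

`Interval Qc K a b` : every map from `K` to an object of `D_Qc` without cohomology in degrees `[a, b]` is zero.
-/

set_option autoImplicit false

universe w v u

open CategoryTheory Category Limits Pretriangulated Triangulated DerivedCategory

namespace K290.HomBd

open Groth.Agent.PerfA.CohomIn

variable {C : Type u} [Category.{v} C] [Abelian C] [HasDerivedCategory.{w} C]

/-- Every map from `K` to an object of `D_Qc` without cohomology in degrees `[a, b]` is zero. -/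
def Interval (Qc : ObjectProperty C) (K : DerivedCategory C) (a b : ℤ) : Prop :=
  ∀ L : DerivedCategory C, coh Qc L →
    (∀ i : ℤ, a ≤ i → i ≤ b → IsZero ((homologyFunctor C i).obj L)) → ∀ φ : K ⟶ L, φ = 0

variable {Qc : ObjectProperty C} [Qc.IsClosedUnderIsomorphisms] [Qc.ContainsZero]

/-- A morphism `P⟦-i⟧ ⟶ L` is zero when every morphism `P ⟶ L⟦i⟧` is. -/
theorem eq_zero_of_shift (P L : DerivedCategory C) (i : ℤ)
    (h : ∀ ψ : P ⟶ L⟦i⟧, ψ = 0) (φ : P⟦-i⟧ ⟶ L) : φ = 0 := by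
  have h1 : (shiftFunctorCompIsoId (DerivedCategory C) (-i) i (by omega)).inv.app P ≫ φ⟦i⟧' = 0 := h _
  have h2 : φ⟦i⟧' = 0 := by
    rwa [← cancel_epi ((shiftFunctorCompIsoId (DerivedCategory C) (-i) i (by omega)).inv.app P), comp_zero]
  exact (shiftFunctor (DerivedCategory C) i).map_injective (by rw [h2, Functor.map_zero])

/-- A morphism `P ⟶ L⟦i⟧` is zero when every morphism `P⟦-i⟧ ⟶ L` is. -/
theorem eq_zero_of_shift' (P L : DerivedCategory C) (i : ℤ)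
    (h : ∀ ψ : P⟦-i⟧ ⟶ L, ψ = 0) (φ : P ⟶ L⟦i⟧) : φ = 0 := by
  have h1 : φ⟦-i⟧' ≫ (shiftFunctorCompIsoId (DerivedCategory C) i (-i) (by omega)).hom.app L = 0 := h _
  have h2 : φ⟦-i⟧' = 0 := by
    rwa [← cancel_mono ((shiftFunctorCompIsoId (DerivedCategory C) i (-i) (by omega)).hom.app L), zero_comp]
  exact (shiftFunctor (DerivedCategory C) (-i)).map_injective (by rw [h2, Functor.map_zero])

theorem isZero_shift (L : DerivedCategory C) (n i : ℤ) (h : IsZero ((homologyFunctor C (n + i)).obj L)) :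
    IsZero ((homologyFunctor C i).obj (L⟦n⟧)) :=
  h.of_iso (((homologyFunctor C 0).shiftIso n i (n + i) rfl).app L)

omit [Qc.ContainsZero] in
theorem coh_shift {L : DerivedCategory C} (hL : coh Qc L) (n : ℤ) : coh Qc (L⟦n⟧) :=
  (coh Qc).le_shift n L hL

variable {K : DerivedCategory C} {a b : ℤ} (hK : Interval Qc K a b)

include hK

theorem hom_shift_eq_zero {L : DerivedCategory C} (hL : coh Qc L) (n : ℤ)
    (h : ∀ i : ℤ, a + n ≤ i → i ≤ b + n → IsZero ((homologyFunctor C i).obj L)) (φ : K ⟶ L⟦n⟧) :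
    φ = 0 :=
  hK _ (coh_shift hL n) (fun i hi hi' => isZero_shift L n i (h _ (by lia) (by lia))) φ

theorem shift_hom_eq_zero {L : DerivedCategory C} (hL : coh Qc L) (n : ℤ)
    (h : ∀ i : ℤ, a + n ≤ i → i ≤ b + n → IsZero ((homologyFunctor C i).obj L)) (φ : K⟦-n⟧ ⟶ L) :
    φ = 0 :=
  eq_zero_of_shift K L n (hom_shift_eq_zero hK hL n h) φ

/-- Maps from `K` to a bounded object of `D_Qc` shifted by a large integer vanish. -/
theorem exists_bound {L : DerivedCategory C} (hL : coh Qc L) (a' b' : ℤ) (hLa : L.IsGE a') (hLb : L.IsLE b') :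
    ∃ N : ℕ, ∀ n : ℤ, (N : ℤ) ≤ |n| → ∀ φ : K ⟶ L⟦n⟧, φ = 0 := by
  refine ⟨(|b' - a| + |a' - b| + 1).toNat, fun n hn φ => ?_⟩
  have h0 : |b' - a| + |a' - b| + 1 ≤ |n| := (Int.self_le_toNat _).trans hn
  refine hom_shift_eq_zero hK hL n (fun i hi hi' => ?_) φ
  rcases le_or_gt 0 n with hn0 | hn0
  · rw [abs_of_nonneg hn0] at h0
    refine isZero_of_isLE L b' i ?_
    have := le_abs_self (b' - a)
    have := abs_nonneg (a' - b)
    lia
  · rw [abs_of_neg hn0] at h0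
    refine isZero_of_isGE L a' i ?_
    have := neg_abs_le (a' - b)
    have := abs_nonneg (b' - a)
    lia

/-- Vanishing of `K⟦-i⟧ ⟶ E` for all large `i` only depends on `τ_{≥ c} E`. -/
theorem large_iff {E : DerivedCategory C} (hE : coh Qc E) (c : ℤ) :
    (∃ N : ℤ, ∀ i : ℤ, N ≤ i → ∀ φ : K⟦-i⟧ ⟶ E, φ = 0) ↔
      (∃ N : ℤ, ∀ i : ℤ, N ≤ i → ∀ φ : K⟦-i⟧ ⟶ (TStructure.t.truncGE c).obj E, φ = 0) := by
  set t := (DerivedCategory.TStructure.t : TStructure (DerivedCategory C)) with ht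
  have hT := t.triangleLTGE_distinguished c E
  have hq : coh Qc ((t.truncLT c).obj E) := coh_truncLT Qc E c hE
  have hle : ((t.truncLT c).obj E).IsLE (c - 1) := by
    change t.IsLE _ _
    infer_instance
  have key : ∀ i : ℤ, c - a ≤ i → ∀ ψ : K⟦-i⟧ ⟶ (t.truncLT c).obj E, ψ = 0 := fun i hi ψ =>
    shift_hom_eq_zero hK hq i (fun j hj _ => isZero_of_isLE _ (c - 1) j (by lia)) ψ
  have key1 : ∀ i : ℤ, c - a ≤ i → ∀ ψ : K⟦-i⟧ ⟶ ((t.truncLT c).obj E)⟦(1 : ℤ)⟧, ψ = 0 := fun i hi ψ =>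
    shift_hom_eq_zero hK (coh_shift hq 1) i (fun j hj _ => isZero_shift _ _ _
      (isZero_of_isLE _ (c - 1) _ (by lia))) ψ
  constructor
  · rintro ⟨N, hN⟩
    refine ⟨max N (c - a), fun i hi φ => ?_⟩
    obtain ⟨ψ, hψ⟩ := Triangle.coyoneda_exact₃ _ hT φ (key1 i ((le_max_right _ _).trans hi) _)
    have h0 : ψ = 0 := hN i ((le_max_left _ _).trans hi) ψ
    subst h0
    exact hψ.trans zero_comp
  · rintro ⟨N, hN⟩
    refine ⟨max N (c - a), fun i hi φ => ?_⟩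
    obtain ⟨ψ, hψ⟩ := Triangle.coyoneda_exact₂ _ hT φ (hN i ((le_max_left _ _).trans hi) _)
    have h0 : ψ = 0 := key i ((le_max_right _ _).trans hi) ψ
    subst h0
    exact hψ.trans zero_comp

/-- Vanishing of `K⟦-i⟧ ⟶ E` for all very negative `i` only depends on `τ_{≤ c} E`. -/
theorem small_iff {E : DerivedCategory C} (hE : coh Qc E) (c : ℤ) :
    (∃ N : ℤ, ∀ i : ℤ, i ≤ N → ∀ φ : K⟦-i⟧ ⟶ E, φ = 0) ↔
      (∃ N : ℤ, ∀ i : ℤ, i ≤ N → ∀ φ : K⟦-i⟧ ⟶ (TStructure.t.truncLE c).obj E, φ = 0) := by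
  set t := (DerivedCategory.TStructure.t : TStructure (DerivedCategory C)) with ht
  have hT := t.triangleLEGT_distinguished c E
  have hq : coh Qc ((t.truncGT c).obj E) := coh_truncGT Qc E c hE
  have hge : ((t.truncGT c).obj E).IsGE (c + 1) := by
    change t.IsGE ((t.truncGE (c + 1)).obj E) _
    infer_instance
  have key : ∀ i : ℤ, i ≤ c - b → ∀ ψ : K⟦-i⟧ ⟶ (t.truncGT c).obj E, ψ = 0 := fun i hi ψ =>
    shift_hom_eq_zero hK hq i (fun j _ hj => isZero_of_isGE _ (c + 1) j (by lia)) ψ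
  have key1 : ∀ i : ℤ, i ≤ c - b → ∀ ψ : K⟦-(i - 1)⟧ ⟶ (t.truncGT c).obj E, ψ = 0 := fun i hi ψ =>
    shift_hom_eq_zero hK hq (i - 1) (fun j _ hj => isZero_of_isGE _ (c + 1) j (by lia)) ψ
  have key2 : ∀ i : ℤ, i ≤ c - b → ∀ ψ : (K⟦-i⟧)⟦(1 : ℤ)⟧ ⟶ (t.truncGT c).obj E, ψ = 0 := fun i hi ψ => by
    rw [← cancel_epi ((shiftFunctorAdd' (DerivedCategory C) (-i) 1 (-(i - 1)) (by lia)).hom.app K), comp_zero]
    exact key1 i hi _
  constructor
  · rintro ⟨N, hN⟩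
    refine ⟨min N (c - b), fun i hi φ => ?_⟩
    have h1 : φ ≫ (t.truncLEι c).app E = 0 := hN i (hi.trans (min_le_left _ _)) _
    obtain ⟨ψ, hψ⟩ : ∃ ψ : (K⟦-i⟧)⟦(1 : ℤ)⟧ ⟶ (t.truncGT c).obj E,
        φ⟦(1 : ℤ)⟧' = ψ ≫ ((t.triangleLEGT c).obj E).mor₃ :=
      Triangle.coyoneda_exact₁ _ hT (φ⟦(1 : ℤ)⟧') (by
        change φ⟦(1 : ℤ)⟧' ≫ ((t.truncLEι c).app E)⟦(1 : ℤ)⟧' = 0
        rw [← Functor.map_comp, h1, Functor.map_zero])
    rw [key2 i (hi.trans (min_le_right _ _)) ψ, zero_comp] at hψ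
    exact (shiftFunctor (DerivedCategory C) (1 : ℤ)).map_injective
      (hψ.trans (Functor.map_zero _ _ _).symm)
  · rintro ⟨N, hN⟩
    refine ⟨min N (c - b), fun i hi φ => ?_⟩
    obtain ⟨ψ, hψ⟩ := Triangle.coyoneda_exact₂ _ hT φ (key i (hi.trans (min_le_right _ _)) _)
    have h0 : ψ = 0 := hN i (hi.trans (min_le_left _ _)) ψ
    subst h0
    exact hψ.trans zero_comp

end K290.HomBd
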