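import Groth.Agent.AlgSp.K290.Compact
import Mathlib.CategoryTheory.ObjectProperty.Kernels

/-!
# Perfect objects form a thick subcategory; compact objects of `D_QCoh(O_X)` are perfect if there is a perfect
generator
-/

set_option autoImplicit false

universe w v u

open CategoryTheory Category Limits Pretriangulated Triangulated DerivedCategory Opposite

open scoped ZeroObject

namespace K290.PerfThick

open AlgebraicGeometry AlgSp K645.TE K645.Int K290.Compact

attribute [local instance] HasDerivedCategory.standard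

theorem isStableUnderRetracts_of_kernels {C : Type u} [Category.{v} C] [Preadditive C] (P : ObjectProperty C)
    [P.IsClosedUnderKernels] : P.IsStableUnderRetracts where
  of_retract {X Y} r h := by
    have h1 : r.i ≫ (𝟙 Y - r.r ≫ r.i) = 0 := by
      rw [Preadditive.comp_sub, comp_id, r.retract_assoc, sub_self]
    refine P.prop_of_isLimit_kernelFork (f := 𝟙 Y - r.r ≫ r.i) (k := KernelFork.ofι r.i h1) ?_ h h
    refine KernelFork.IsLimit.ofι _ _ (fun g _ => g ≫ r.r) (fun g hg => ?_) (fun g hg m hm => ?_)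
    · rw [Preadditive.comp_sub, comp_id, sub_eq_zero] at hg
      rw [assoc, ← hg]
    · rw [← hm, assoc, r.retract, comp_id]

variable {S : Scheme.{u}} {X : Sp S}

instance : (K294.QcSerre.qc X).IsStableUnderRetracts := isStableUnderRetracts_of_kernels _

instance (E : EtOver X) : (K294.QcSerre.qcOn E).IsStableUnderRetracts := isStableUnderRetracts_of_kernels _

instance : (dqc X).IsStableUnderRetracts where
  of_retract r h := fun i =>
    (K294.QcSerre.qc X).prop_of_retract (r.map (DerivedCategory.homologyFunctor (ModEt X) i)) (h i)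

theorem qcOn_of_retract {E : EtOver X} {K K' : DCoh.DMod (OEtOn E)} (r : Retract K K')
    (h : DCoh.IsQCohDMod (OEtOn E) K') : DCoh.IsQCohDMod (OEtOn E) K := fun i =>
  (K294.QcSerre.qcOn E).prop_of_retract (r.map (DerivedCategory.homologyFunctor (ModEtOn E) i)) (h i)

theorem perfAt_of_retract {K K' : DModEt X} (r : Retract K K') (E : EtOver X) [IsAffine E.obj.left.left]
    (h : PerfAt K' E) : PerfAt K E := by
  obtain ⟨M, hM, ⟨e⟩⟩ := h
  have hq : DCoh.IsQCohDMod (OEtOn E) ((resDEt E).obj K) :=
    qcOn_of_retract ((r.map (resDEt E)).trans (Retract.ofIso e.symm)) (isQCoh_TD E M)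
  obtain ⟨N, ⟨e'⟩⟩ := exists_TD_iso E _ hq
  let i : N ⟶ M := (TD E).preimage (e'.hom ≫ (resDEt E).map r.i ≫ e.inv)
  let p : M ⟶ N := (TD E).preimage (e.hom ≫ (resDEt E).map r.r ≫ e'.inv)
  have hip : i ≫ p = 𝟙 N := by
    apply (TD E).map_injective
    rw [Functor.map_comp, Functor.map_preimage, Functor.map_preimage]
    simp only [assoc, Iso.inv_hom_id_assoc]
    rw [← Functor.map_comp_assoc, r.retract, CategoryTheory.Functor.map_id, id_comp, Iso.hom_inv_id,
      CategoryTheory.Functor.map_id]
  exact ⟨N, K229.PerfRetract.isPerfect_of_retract i p hip hM, ⟨e'⟩⟩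

/-- The perfect objects. -/
def perfS (X : Sp S) : ObjectProperty (DModEt X) := fun K => IsPerfectEtD K

/-- The objects which are perfect on the affine object `E`. -/
def perfAtP (E : EtOver X) [IsAffine E.obj.left.left] : ObjectProperty (DModEt X) :=
  ((K229.PerfInd.perf (B E)).map (TD E)).inverseImage (resDEt E)

theorem perfAtP_iff (E : EtOver X) [IsAffine E.obj.left.left] (K : DModEt X) : perfAtP E K ↔ PerfAt K E := by
  constructor
  · rintro ⟨M, hM, e⟩
    exact ⟨M, hM, e⟩
  · rintro ⟨M, hM, e⟩
    exact ⟨M, hM, e⟩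

instance (E : EtOver X) [IsAffine E.obj.left.left] : (perfAtP E).IsTriangulated := by
  unfold perfAtP
  infer_instance

instance (E : EtOver X) [IsAffine E.obj.left.left] : (perfAtP E).IsClosedUnderIsomorphisms := by
  unfold perfAtP
  infer_instance

theorem perfS_iff (K : DModEt X) :
    perfS X K ↔ ∀ (E : EtOver X) (_ : IsAffine E.obj.left.left), perfAtP E K := by
  rw [perfS, isPerfectEtD_iff]
  exact forall_congr' fun E => forall_congr' fun _ => (perfAtP_iff E K).symm

instance : (perfS X).IsClosedUnderIsomorphisms where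
  of_iso e h := by
    rw [perfS_iff] at h ⊢
    exact fun E hE => (perfAtP E).prop_of_iso e (h E hE)

instance : (perfS X).IsTriangulated where
  exists_zero := ⟨0, isZero_zero _, (perfS_iff _).2 fun E _ => (perfAtP E).prop_of_isZero (isZero_zero _)⟩
  isStableUnderShiftBy n := ⟨fun K h => (perfS_iff _).2 fun E hE => (perfAtP E).le_shift n K ((perfS_iff K).1 h E hE)⟩
  ext₂' T hT h₁ h₃ := ObjectProperty.le_isoClosure _ _ ((perfS_iff _).2 fun E hE =>
    (perfAtP E).ext_of_isTriangulatedClosed₂ T hT ((perfS_iff _).1 h₁ E hE) ((perfS_iff _).1 h₃ E hE))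

instance : (perfS X).IsStableUnderRetracts where
  of_retract r h := by
    rw [perfS, isPerfectEtD_iff] at h ⊢
    exact fun E hE => perfAt_of_retract r E (h E hE)

/-- If `D_QCoh(O_X)` has a perfect generator, then compact = perfect. -/
theorem isCompact_iff [QuasiSeparatedSpace ↥S] (X : AlgSp.Space S) (hXc : AlgSp.IsQuasiCompactSp X.obj)
    (hXs : AlgSp.IsQuasiSeparatedSp X.obj) (G : DModEt X.obj) (hG : IsPerfectEtD G)
    (hgen : ∀ L : DModEt X.obj, DCoh.IsQCohDMod (OEtRing X.obj) L →
      (IsZero L ↔ ∀ (n : ℤ) (φ : G⟦n⟧ ⟶ L), φ = 0))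
    (K : DModEt X.obj) (hK : DCoh.IsQCohDMod (OEtRing X.obj) K) :
    PerfAux.IsCompactObjRel.{u + 1} (fun L : DModEt X.obj => DCoh.IsQCohDMod (OEtRing X.obj) L) K ↔
      IsPerfectEtD K :=
  ⟨fun h => prop_of_isCompact X hXc hXs G hG (fun L hL hφ => (hgen L hL).2 hφ) (perfS X.obj) hG K hK h,
    fun h => isCompact_of_isPerfect X hXc hXs K h⟩

end K290.PerfThick
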