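import Groth.Agent.AlgSp.K290.Thick

/-!
# Zariski induction in a slice of the small etale site
-/

set_option autoImplicit false
universe u

open CategoryTheory CategoryTheory.Limits Opposite AlgebraicGeometry

attribute [local instance] HasDerivedCategory.standard

namespace K290.Thick

open K645.Ex K645.Lam K645.Shriek K645.Square K645.IsO K290.DIdem AlgSp K646.EtSite

variable {S : Scheme.{u}} {X : AlgSp.Sp S} (V : EtOver X)

/-- The empty open of a slice. -/
theorem isZero_lD_opV_bot (K : DR ((OEtRing X).over V)) {A : Set ↥(sch V)} (hA : A = ∅) :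
    IsZero ((lD (opV V A) ((OEtRing X).over V)).obj K) := by
  subst hA
  refine isZero_lD_bot (fun Y hY => ?_) _
  have he : IsEmpty ↥(sch Y.left) := ⟨fun y => hY ⟨y, rfl⟩⟩
  have h1 := K646.EtAcyc.bot_mem_of_isEmpty Y.left
  rw [GrothendieckTopology.mem_over_iff]
  exact (etTop X).superset_covering bot_le h1

/-- (P1) Zariski induction. -/
theorem zar_ind (P : ObjectProperty (DR ((OEtRing X).over V))) [P.IsTriangulated] [P.IsClosedUnderIsomorphisms]
    (K : DR ((OEtRing X).over V)) : ∀ (n : ℕ) (l : List Γ(sch V, ⊤)), l.length = n →
      (∀ g : Γ(sch V, ⊤), (sch V).basicOpen g ≤ OL l →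
        P ((lD (opV V ((sch V).basicOpen g)) ((OEtRing X).over V)).obj K)) →
      P ((lD (opV V (OL l)) ((OEtRing X).over V)).obj K) := by
  intro n
  induction n with
  | zero =>
    intro l hl _
    rw [List.length_eq_zero_iff] at hl
    subst hl
    exact P.prop_of_isZero (isZero_lD_opV_bot V K rfl)
  | succ n ih =>
    intro l hl h
    cases l with
    | nil => simp at hl
    | cons f l =>
      have hl' : l.length = n := by simpa using hl
      refine prop_lD_union (U := opV V ((sch V).basicOpen f)) (U' := opV V (OL l))
        (opV_le V ?_) (opV_le V ?_) (fun Y hY => exists_cover_opV Y ?_) P _ ?_ (h f le_sup_left)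
        (ih l hl' (fun g hg => h g (hg.trans le_sup_right)))
      · exact (le_sup_left : (sch V).basicOpen f ≤ OL (f :: l))
      · exact (le_sup_right : OL l ≤ OL (f :: l))
      · intro y hy
        exact hY hy
      · have h1 : inter (opV V ((sch V).basicOpen f)) (opV V (OL l)) = opV V (OL (l.map (f * ·))) := by
          rw [inter_opV, ← inf_OL]
          rfl
        rw [h1]
        refine ih _ (by rw [List.length_map, hl']) (fun g hg => h g ?_)
        rw [← inf_OL] at hg
        exact hg.trans (inf_le_right.trans le_sup_right)

end K290.Thick
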