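import Groth.Agent.AlgSp.K290.PerfThick
import Groth.Agent.AlgSp.K290.ZarInd
import Mathlib.CategoryTheory.Triangulated.Orthogonal

/-!
# Complexes supported in an open of the small etale site, quasi-coherent there
-/

set_option autoImplicit false
set_option linter.unusedSectionVars false

universe w v u

open CategoryTheory Category Limits Pretriangulated Triangulated Opposite

namespace K290.QCW

open K645.Ex K645.Lam K645.Shriek K645.Square K290.DIdem

attribute [local instance] HasDerivedCategory.standard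

section site

variable {C : Type (u + 1)} [Category.{u} C] {J : GrothendieckTopology C} {R : Sheaf J RingCat.{u + 1}}
  {V : C} {U W : Opn C}
  [HasSheafify J AddCommGrpCat.{u + 1}] [J.WEqualsLocallyBijective AddCommGrpCat.{u + 1}]

/-- The complexes vanishing on `W`. -/
def van (W : Opn C) (R : Sheaf J RingCat.{u + 1}) : ObjectProperty (DR R) := fun K => IsZero ((lD W R).obj K)

instance : (van W R).IsStableUnderShift ℤ where
  isStableUnderShiftBy n := ⟨fun K hK => ((shiftFunctor _ n).map_isZero hK).of_iso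
    (((lD W R).commShiftIso n).app K)⟩

/-- The complexes supported in `W`. -/
def sup (W : Opn C) (R : Sheaf J RingCat.{u + 1}) : ObjectProperty (DR R) := fun K => IsIso ((iD W R).app K)

theorem sup_eq (W : Opn C) (R : Sheaf J RingCat.{u + 1}) : sup W R = (van W R).leftOrthogonal := by
  ext K
  constructor
  · intro h L f hL
    exact eq_zero h hL f
  · intro h
    obtain ⟨Z, g, δ, hT⟩ := distinguished_cocone_triangle ((iD W R).app K)
    have h1 : IsZero ((lD W R).obj Z) := by
      have := isIso_lD_map_iD_self (U := W) K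
      exact ((Triangle.isZero₃_iff_isIso₁ _ ((lD W R).map_distinguished _ hT)).2 this)
    have h2 : g = 0 := h g h1
    obtain ⟨r, hr⟩ := Triangle.yoneda_exact₃ _ hT (𝟙 Z) (by
      change g ≫ 𝟙 Z = 0
      rw [h2, zero_comp])
    have h3 : r = 0 := eq_zero (isIso_iD_of_iso W (((lD W R).commShiftIso (1 : ℤ)).app K)
      (isIso_iD_lD_self (U := W) (K⟦(1 : ℤ)⟧))) h1 r
    have h4 : IsZero Z := by
      rw [IsZero.iff_id_eq_zero, hr, h3, comp_zero]
      rfl
    exact (Triangle.isZero₃_iff_isIso₁ _ hT).1 h4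

instance : (sup W R).IsTriangulated := by
  rw [sup_eq]
  infer_instance

instance : (sup W R).IsClosedUnderIsomorphisms := by
  rw [sup_eq]
  infer_instance

theorem sup_coprod {ι : Type w} (K : ι → DR R) [HasCoproduct K] (hK : ∀ i, sup W R (K i)) : sup W R (∐ K) := by
  rw [sup_eq] at hK ⊢
  intro L f hL
  refine Sigma.hom_ext _ _ fun i => ?_
  rw [comp_zero]
  exact hK i _ hL

theorem sup_retract {K L : DR R} (r : Retract K L) (hL : sup W R L) : sup W R K := by
  rw [sup_eq] at hL ⊢
  intro M f hM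
  have h1 := hL (r.r ≫ f) hM
  calc f = r.i ≫ r.r ≫ f := by rw [r.retract_assoc]
    _ = 0 := by rw [h1, comp_zero]

end site

section sp

open AlgebraicGeometry AlgSp K646.EtSite K645.TE K645.Int K645.IsO K290.Compact K290.Thick K290.ElemSq

variable {S : Scheme.{u}} {X : Sp S}

/-- The complexes which are quasi-coherent on the affine object `E`. -/
def qcAtP (E : EtOver X) : ObjectProperty (DModEt X) :=
  (Groth.Agent.PerfA.CohomIn.coh (K294.QcSerre.qcOn E)).inverseImage (resDEt E)

instance (E : EtOver X) : (qcAtP E).IsTriangulated := by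
  unfold qcAtP
  infer_instance

instance (E : EtOver X) : (qcAtP E).IsClosedUnderIsomorphisms := by
  unfold qcAtP
  infer_instance

theorem qcAtP_iff (E : EtOver X) (K : DModEt X) :
    qcAtP E K ↔ DCoh.IsQCohDMod (OEtOn E) ((resDEt E).obj K) := Iff.rfl

theorem qcAtP_coprod (E : EtOver X) {ι : Type (u + 1)} (K : ι → DModEt X) (hK : ∀ i, qcAtP E (K i)) :
    qcAtP E (∐ K) := by
  have := K646.Inst.isGrothendieckAbelian X
  have := K646.Inst.isGrothendieckAbelianOn E
  have : AB4OfSize.{u + 1} (AlgSp.ModEt X) := inferInstance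
  have hx : HasExactColimitsOfShape (Discrete ι) (AlgSp.ModEt X) := inferInstance
  have hp : ∀ i : ℤ, PreservesColimitsOfShape (Discrete ι) (DerivedCategory.homologyFunctor (AlgSp.ModEt X) i) :=
    fun i => Groth.Agent.CohtopB.DCoprod.preservesColimitsOfShape_homologyFunctor_derivedCategory
    (A := AlgSp.ModEt X) (ι := ι) i
  intro i
  have hp' := hp i
  have h1 : PreservesColimitsOfShape (Discrete ι) (resModEt E) := inferInstance
  have hc := isColimitOfPreserves (resModEt E)
    (isColimitOfPreserves (DerivedCategory.homologyFunctor (AlgSp.ModEt X) i) (coproductIsCoproduct K))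
  refine (K294.QcSerre.qcOn E).prop_of_iso ((Groth.Agent.PerfA.ExactD.mapHomology (resModEt E) i).app _).symm ?_
  refine (show ((resModEt E).obj ((DerivedCategory.homologyFunctor (ModEt X) i).obj (∐ K))).IsQuasicoherent from
    K644.QCoh.isQuasicoherent_of_isQC (T := K644.Slice.oT (AlgSp.EtOver.toScheme X) E)
    (K644.Colim.isQC_of_isColimit hc fun k => ?_))
  have h2 : K294.QcSerre.qcOn E ((resModEt E).obj ((DerivedCategory.homologyFunctor (ModEt X) i).obj (K k.as))) :=
    (K294.QcSerre.qcOn E).prop_of_iso ((Groth.Agent.PerfA.ExactD.mapHomology (resModEt E) i).app _) (hK k.as i)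
  have : (((Discrete.functor K ⋙ DerivedCategory.homologyFunctor (ModEt X) i) ⋙ resModEt E).obj k).IsQuasicoherent :=
    h2
  exact K644.QCoh.isQC_of_isQuasicoherent (T := K644.Slice.oT (AlgSp.EtOver.toScheme X) E) _

/-- Complexes supported in `W` and quasi-coherent on the affine objects of `W`. -/
def QC (W : Opn (EtOver X)) : ObjectProperty (DModEt X) := fun K =>
  sup W (OEtRing X) K ∧ ∀ E : EtOver X, W.mem E → IsAffine (sch E) → qcAtP E K

variable {W : Opn (EtOver X)}

instance : (QC W).IsClosedUnderIsomorphisms where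
  of_iso e h := ⟨(sup W (OEtRing X)).prop_of_iso e h.1, fun E hE hE' => (qcAtP E).prop_of_iso e (h.2 E hE hE')⟩

open scoped ZeroObject in
instance : (QC W).IsTriangulated where
  exists_zero := ⟨0, isZero_zero _, (sup W (OEtRing X)).prop_of_isZero (isZero_zero _),
    fun E _ _ => (qcAtP E).prop_of_isZero (isZero_zero _)⟩
  isStableUnderShiftBy n := ⟨fun K h => ⟨(sup W (OEtRing X)).le_shift n K h.1,
    fun E hE hE' => (qcAtP E).le_shift n K (h.2 E hE hE')⟩⟩
  ext₂' T hT h₁ h₃ := ObjectProperty.le_isoClosure _ _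
    ⟨(sup W (OEtRing X)).ext_of_isTriangulatedClosed₂ T hT h₁.1 h₃.1,
      fun E hE hE' => (qcAtP E).ext_of_isTriangulatedClosed₂ T hT (h₁.2 E hE hE') (h₃.2 E hE hE')⟩

theorem QC_coprod {ι : Type (u + 1)} (K : ι → DModEt X) (hK : ∀ i, QC W (K i)) : QC W (∐ K) :=
  ⟨sup_coprod K fun i => (hK i).1, fun E hE hE' => qcAtP_coprod E K fun i => (hK i).2 E hE hE'⟩

/-- Restriction of quasi-coherent complexes. -/
theorem QC_lD {U : Opn (EtOver X)} (h : ∀ E, U.mem E → W.mem E) {K : DModEt X} (hK : QC W K) :
    QC U ((lD U (OEtRing X)).obj K) := by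
  refine ⟨isIso_iD_lD_self K, fun E hE hE' => ?_⟩
  have h1 := isIso_lD_map_rD_map_iD (V := E) U K
  have h2 : IsIso ((iD (ovr U E) ((OEtRing X).over E)).app ((rD (OEtRing X) E).obj ((lD U (OEtRing X)).obj K))) :=
    isIso_iD_top (W := ovr U E) (R := (OEtRing X).over E) (fun Y => ⟨⊤, GrothendieckTopology.top_mem _ _, fun Y' e _ => U.down Y'.hom hE⟩) _
  have h3 : IsIso ((iD (ovr U E) ((OEtRing X).over E)).app ((rD (OEtRing X) E).obj K)) :=
    isIso_iD_top (W := ovr U E) (R := (OEtRing X).over E) (fun Y => ⟨⊤, GrothendieckTopology.top_mem _ _, fun Y' e _ => U.down Y'.hom hE⟩) _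
  have h4 : IsIso ((rD (OEtRing X) E).map ((iD U (OEtRing X)).app K)) := by
    have h5 := lD_map_iD (ovr U E) ((rD (OEtRing X) E).map ((iD U (OEtRing X)).app K))
    have h6 : IsIso ((lD (ovr U E) ((OEtRing X).over E)).map ((rD (OEtRing X) E).map ((iD U (OEtRing X)).app K)) ≫
        (iD (ovr U E) ((OEtRing X).over E)).app ((rD (OEtRing X) E).obj K)) := @IsIso.comp_isIso _ _ _ _ _ _ _ h1 h3
    have h7 : IsIso ((iD (ovr U E) ((OEtRing X).over E)).app ((rD (OEtRing X) E).obj ((lD U (OEtRing X)).obj K)) ≫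
      (rD (OEtRing X) E).map ((iD U (OEtRing X)).app K)) := by
      rw [← h5]
      exact h6
    exact @IsIso.of_isIso_comp_left _ _ _ _ _ _ _ h2 h7
  exact (Groth.Agent.PerfA.CohomIn.coh (K294.QcSerre.qcOn E)).prop_of_iso
    (asIso ((rD (OEtRing X) E).map ((iD U (OEtRing X)).app K))).symm (hK.2 E (h E hE) hE')

end sp

end K290.QCW
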